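import Cfsg.Agent.Lib.ThreeCubedWreath.Model

/-!
# Finite computations in the group `3³ : S₄`
-/

set_option autoImplicit false

namespace CfsgLib.ThreeCubedWreath

open Cfsg CfsgLib.ThreeCubed CfsgLib.Characters

/-- The elements of `J` by exponents. -/
def Jel (t : Fin 3 × Fin 3 × Fin 3) : W :=
  SemidirectProduct.inl (.r t.1, .r t.2.1, .r t.2.2)

/-- Conjugating elements. -/
def conjC (t : Fin 3 × Fin 3 × Fin 3) (a b : Fin 2) (i : Fin 3) (c : Fin 2) : W :=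
  Jel t * (SemidirectProduct.inl (g4 ^ a.val * g5 ^ b.val) * gB ^ i.val * gC ^ c.val)

theorem isJ_iff {x : W} : isJ x ↔ x ∈ M4 ∧ x.right = 1 ∧ x * x * x = 1 := by
  unfold isJ
  rw [mem_M4_iff]
  constructor
  · rintro ⟨h1, h2, h3⟩
    refine ⟨by rw [h1, sgn_one, mul_one, h2], h1, ?_⟩
    obtain ⟨v, s⟩ := x
    subst h1
    rw [show (⟨v, 1⟩ : W) = SemidirectProduct.inl v from rfl, ← map_mul, ← map_mul,
      show v * v * v = 1 from h3, map_one]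
  · rintro ⟨h2, h1, h3⟩
    rw [h1, sgn_one, mul_one] at h2
    refine ⟨h1, h2, ?_⟩
    obtain ⟨v, s⟩ := x
    subst h1
    rw [show (⟨v, 1⟩ : W) = SemidirectProduct.inl v from rfl, ← map_mul, ← map_mul] at h3
    exact SemidirectProduct.inl_injective (h3.trans (map_one _).symm)

theorem forall_M4set {P : W → Prop} [DecidablePred P]
    (h : (M4set.filter fun x => ¬ P x).card = 0) : ∀ x ∈ M4set, P x := by
  have key : ∀ (t : Finset W), (t.filter fun x => ¬ P x).card = 0 → ∀ x ∈ t, P x := by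
    intro t ht x hx
    by_contra hn
    have hm : x ∈ t.filter fun x => ¬ P x := Finset.mem_filter.2 (And.intro hx hn)
    rw [Finset.card_eq_zero.1 ht] at hm
    exact Finset.notMem_empty x hm
  exact key M4set h

theorem base_mem : ∀ x ∈ [w0, d0, z0, y0, t0, gC, gB, i1, i4],
    sg x.left * sgn x.right = 1 := by decide +kernel

theorem base_facts : isJ d0 ∧ d0 ≠ 1 ∧ w0 * d0 = d0 * w0 ∧ w0 * w0 * w0 = 1 ∧ z0 * z0 = 1 ∧
    z0 ≠ 1 ∧ gC * gC = 1 ∧ w0 ≠ 1 ∧ z0.right = 1 ∧ gC.right ≠ 1 ∧ gC ≠ 1 := by decide +kernel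

theorem conjC_mem : ∀ t a b i c, sg (conjC t a b i c).left * sgn (conjC t a b i c).right = 1 := by
  decide +kernel

theorem Vec_cube : ∀ v : Vec, sg v = 1 → v * v * v = 1 →
    ∃ t : Fin 3 × Fin 3 × Fin 3, v = (.r t.1, .r t.2.1, .r t.2.2) := by decide +kernel

theorem jrep_mem : ∀ p, isJ (jrep p) ∧ jrep p ≠ 1 := by decide +kernel

theorem jrep_centralizer : ∀ p : Fin 3,
    (M4set.filter fun x => x * jrep p = jrep p * x).card = ![108, 54, 81] p := by decide +kernel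

theorem jrep_classes : ∀ t, Jel t ≠ 1 → ∃ p : Fin 3, ∃ a b : Fin 2, ∃ i : Fin 3, ∃ c : Fin 2,
    conjC 0 a b i c * jrep p * (conjC 0 a b i c)⁻¹ = Jel t := by decide +kernel

theorem pcore_test : ∀ x ∈ M4set, ((x ^ 3) ^ 3) ^ 9 = 1 →
    (((x * i4 * x⁻¹ * i4⁻¹) ^ 3) ^ 3) ^ 9 = 1 → isJ x :=
  forall_M4set (by decide +kernel)

theorem cube_y : ∀ x ∈ M4set, rot3 x → x * x * x ≠ 1 → isJ (x * x * x) :=
  forall_M4set (by decide +kernel)

theorem centralizer_w0 : ∀ x ∈ M4set, x * w0 = w0 * x →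
    ∃ i j : Fin 3, x = w0 ^ i.val * d0 ^ j.val :=
  forall_M4set (by decide +kernel)

theorem w_d_J : ∀ i j : Fin 3, isJ (w0 ^ i.val * d0 ^ j.val) → i = 0 := by decide +kernel

theorem w_d_cube : ∀ i j : Fin 3,
    (w0 ^ i.val * d0 ^ j.val) * (w0 ^ i.val * d0 ^ j.val) * (w0 ^ i.val * d0 ^ j.val) = 1 := by
  decide +kernel

theorem inverts_w0 : ∀ x ∈ M4set, x * w0 * x⁻¹ = w0⁻¹ →
    x * x = 1 ∧ x * d0 * x⁻¹ = d0⁻¹ ∧ x.right ≠ 1 :=
  forall_M4set (by decide +kernel)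

theorem t0_inverts : t0 * w0 * t0⁻¹ = w0⁻¹ := by decide +kernel

theorem z_class : ∀ x ∈ M4set, x ≠ 1 → x * x = 1 → x.right = 1 →
    ∃ i : Fin 3, ∃ t, conjC t 0 0 i 0 * z0 * (conjC t 0 0 i 0)⁻¹ = x :=
  forall_M4set (by decide +kernel)

theorem t_class : ∀ x ∈ M4set, x * x = 1 → x.right ≠ 1 →
    ∃ i : Fin 3, ∃ a b : Fin 2, ∃ t, conjC t a b i 0 * gC * (conjC t a b i 0)⁻¹ = x :=
  forall_M4set (by decide +kernel)

theorem w_class : ∀ x ∈ M4set, rot3 x → x * x * x = 1 →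
    ∃ c a b : Fin 2, ∃ t, conjC t a b 0 c * w0 * (conjC t a b 0 c)⁻¹ = x :=
  forall_M4set (by decide +kernel)

theorem sums4 : ∑ x ∈ M4set, fY x * fY x = 1296 ∧ ∑ x ∈ M4set, fY x = -432 ∧
    ∑ x ∈ M4set, fW x = -216 := by decide +kernel

theorem gC_fix : jrep 1 * gC = gC * jrep 1 ∧ jrep 0 * z0 = z0 * jrep 0 := by decide +kernel

theorem centralizer_z_e : ∀ x ∈ M4set, x * z0 = z0 * x → x * jrep 0 = jrep 0 * x →
    ((x ^ 3) ^ 3) ^ 9 = 1 → ∃ i : Fin 3, x = jrep 0 ^ i.val :=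
  forall_M4set (by decide +kernel)

theorem jrep0_pow : ∀ i : Fin 3, jrep 0 ^ i.val ≠ 1 →
    (M4set.filter fun x => x * jrep 0 ^ i.val = jrep 0 ^ i.val * x).card = 108 := by
  decide +kernel

/-- Involutions generating `3³ : 2²`. -/
def zs : List Vec := [g4, g5, (.sr 0, .sr 1, 1), (.sr 1, .sr 0, 1), (.sr 1, 1, .sr 0)]

theorem zs_facts : ∀ v ∈ zs, v ≠ 1 ∧ v * v = 1 ∧ sg v = 1 := by decide +kernel

theorem gens_from_zs : g1 = g4 * (.sr 0, .sr 1, 1) ∧ g2 = g4 * (.sr 1, .sr 0, 1) ∧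
    g3 = g5 * (.sr 1, 1, .sr 0) := by decide +kernel

theorem right_reach : ∀ x ∈ M4set, x.right ≠ 1 →
    rot3 x ∨ rot3 (x * w0 * x⁻¹ * w0⁻¹) :=
  forall_M4set (by decide +kernel)

theorem rot_reach : ∀ s : D3, s = .r 1 ∨ s = .r 2 →
    (DihedralGroup.r 1 : D3) * s⁻¹ = 1 ∨ (DihedralGroup.r 1 : D3) * s = 1 := by decide +kernel

theorem y0_facts : rot3 y0 ∧ y0 * y0 * y0 ≠ 1 := by decide +kernel

end CfsgLib.ThreeCubedWreath
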