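import Cfsg.Agent.Lib.ThreeCubedWreath.Facts
import Cfsg.Agent.Lib.PCore.Basic
import Mathlib.GroupTheory.Transfer
import Mathlib.GroupTheory.Nilpotent
import Mathlib.GroupTheory.Sylow
import Mathlib.Tactic.Group

/-!
# Local structure around a subgroup `3³ : S₄`
-/

set_option autoImplicit false
set_option linter.style.haveILetI false
set_option linter.unusedSectionVars false

namespace CfsgLib.ThreeCubedWreath

open Cfsg CfsgLib.ThreeCubed

attribute [local irreducible] M4set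

/-! ### The subgroup of order 27 in the model -/

theorem isJ_eq_inl {x : W} (h : isJ x) :
    x = SemidirectProduct.inl x.left := by
  obtain ⟨v, s⟩ := x
  obtain rfl : s = 1 := h.1
  rfl

theorem isJ_inl {v : Vec} (h1 : sg v = 1) (h3 : v * v * v = 1) :
    isJ (SemidirectProduct.inl v) := ⟨rfl, h1, h3⟩

theorem Tset_of {v : Vec} (h1 : sg v = 1) (h3 : v * v * v = 1) : v ∈ Tset :=
  Finset.mem_filter.2 ⟨Finset.mem_filter.2 ⟨Finset.mem_univ _, h1⟩, h3⟩

theorem isJ_comm {x y : W} (hx : isJ x) (hy : isJ y) : x * y = y * x := by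
  rw [isJ_eq_inl hx, isJ_eq_inl hy, ← map_mul, ← map_mul,
    Tset_comm _ (Tset_of hx.2.1 hx.2.2) _ (Tset_of hy.2.1 hy.2.2)]

theorem isJ_one : isJ (1 : W) := ⟨rfl, rfl, by simp⟩

theorem isJ_cube {x : W} (hx : isJ x) : x * x * x = 1 := (isJ_iff.1 hx).2.2

theorem isJ_mul {x y : W} (hx : isJ x) (hy : isJ y) : isJ (x * y) := by
  obtain ⟨mx, rx, -⟩ := isJ_iff.1 hx
  obtain ⟨my, ry, -⟩ := isJ_iff.1 hy
  refine isJ_iff.2 ⟨mul_mem mx my, by rw [SemidirectProduct.mul_right, rx, ry, one_mul], ?_⟩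
  have hc := isJ_comm hx hy
  calc x * y * (x * y) * (x * y) = x * (y * x) * (y * x) * y := by group
    _ = x * (x * y) * (x * y) * y := by rw [hc]
    _ = x * x * (y * x) * (y * y) := by group
    _ = x * x * (x * y) * (y * y) := by rw [hc]
    _ = x * x * x * (y * y * y) := by group
    _ = 1 := by rw [isJ_cube hx, isJ_cube hy, one_mul]

theorem isJ_inv {x : W} (hx : isJ x) : isJ x⁻¹ := by
  rw [show x⁻¹ = x * x from inv_eq_of_mul_eq_one_right (by rw [← mul_assoc, isJ_cube hx])]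
  exact isJ_mul hx hx

theorem isJ_conj {x c : W} (hx : isJ x) (hc : c ∈ M4) : isJ (c * x * c⁻¹) := by
  obtain ⟨mx, rx, cx⟩ := isJ_iff.1 hx
  refine isJ_iff.2 ⟨mul_mem (mul_mem hc mx) (inv_mem hc), ?_, ?_⟩
  · show SemidirectProduct.rightHom (c * x * c⁻¹) = 1
    rw [map_mul, map_mul, map_inv, show SemidirectProduct.rightHom x = 1 from rx, mul_one,
      mul_inv_cancel]
  · rw [show c * x * c⁻¹ * (c * x * c⁻¹) * (c * x * c⁻¹) = c * (x * x * x) * c⁻¹ by group, cx]
    group

theorem exists_Jel {x : W} (hx : isJ x) : ∃ t, Jel t = x := by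
  obtain ⟨t, ht⟩ := Vec_cube x.left hx.2.1 hx.2.2
  exact ⟨t, by rw [Jel, ← ht, ← isJ_eq_inl hx]⟩

theorem conjC_mem' (t a b i c) : conjC t a b i c ∈ M4 := mem_M4_iff.2 (conjC_mem t a b i c)

/-! ### The configuration -/

universe u

variable {G : Type u} [Group G] {H J : Subgroup G}

/-- The image in the model. -/
def wim (e : H ≃* M4) (h : H) : W := (e h : W)

/-- The element of `H` with a given image. -/
noncomputable def el (e : H ≃* M4) (x : W) : H :=
  if h : sg x.left * sgn x.right = 1 then e.symm ⟨x, mem_M4_iff.2 h⟩ else 1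

variable (e : H ≃* M4)

theorem wim_mul (a b : H) : wim e (a * b) = wim e a * wim e b := by simp [wim]
theorem wim_one : wim e 1 = 1 := by simp [wim]
theorem wim_inv (a : H) : wim e a⁻¹ = (wim e a)⁻¹ := by simp [wim]
theorem wim_pow (a : H) (n : ℕ) : wim e (a ^ n) = wim e a ^ n := by simp [wim]
theorem wim_inj {a b : H} (h : wim e a = wim e b) : a = b := e.injective (Subtype.ext h)
theorem wim_mem (a : H) : wim e a ∈ M4 := (e a).2
theorem wim_mem' (a : H) : wim e a ∈ M4set := mem_M4set.2 (e a).2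

theorem wim_el {x : W} (hx : sg x.left * sgn x.right = 1) : wim e (el e x) = x := by
  unfold el
  rw [dif_pos hx]
  show ((e (e.symm ⟨x, _⟩) : M4) : W) = x
  rw [e.apply_symm_apply]

/-- The representatives in the group. -/
noncomputable abbrev ge (x : W) : G := (el e x : G)

theorem wim_cube {a : H} (h : wim e a * wim e a * wim e a = 1) : (a : G) * a * a = 1 := by
  rw [← wim_mul, ← wim_mul, ← wim_one e] at h
  exact congrArg Subtype.val (wim_inj e h)

theorem ge_eq {x : W} {a : H} (hx : sg x.left * sgn x.right = 1) (h : wim e a = x) :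
    (a : G) = ge e x := congrArg Subtype.val (wim_inj e (h.trans (wim_el e hx).symm))

theorem memJ_iff [Finite G] (hJ : J = (Cfsg.pCore 3 ↥H).map H.subtype) (h : H) :
    (h : G) ∈ J ↔ isJ (wim e h) := by
  rw [hJ]
  haveI : Fact (Nat.Prime 3) := ⟨Nat.prime_three⟩
  constructor
  · intro hm
    obtain ⟨k, hk, hkh⟩ := Subgroup.mem_map.1 hm
    obtain rfl : k = h := Subtype.ext hkh
    have key : ∀ z : H, z ∈ Cfsg.pCore 3 H → ((wim e z ^ 3) ^ 3) ^ 9 = 1 := by
      intro z hz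
      obtain ⟨n, hn⟩ := CfsgLib.PCore.pCore_isPGroup (p := 3) (G := H) ⟨z, hz⟩
      have hn' : z ^ 3 ^ n = 1 := by simpa using congrArg Subtype.val hn
      obtain ⟨m, -, hm'⟩ := (Nat.dvd_prime_pow Nat.prime_three).1 (orderOf_dvd_of_pow_eq_one hn')
      have hcard : orderOf z ∣ 648 := by
        rw [← card_M4, ← Nat.card_congr e.toEquiv]; exact orderOf_dvd_natCard z
      rw [hm'] at hcard
      have hm4 : m ≤ 4 := by
        by_contra! hcon
        exact absurd ((pow_dvd_pow 3 hcon).trans hcard) (by norm_num)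
      have h81 : z ^ 81 = 1 := orderOf_dvd_iff_pow_eq_one.1 (hm' ▸ pow_dvd_pow 3 hm4)
      rw [← pow_mul, ← pow_mul, ← wim_pow, h81, wim_one]
    have hi4 : sg i4.left * sgn i4.right = 1 := base_mem _ (by simp)
    refine pcore_test _ (wim_mem' e k) (key k hk) ?_
    have hc : k * el e i4 * k⁻¹ * (el e i4)⁻¹ ∈ Cfsg.pCore 3 H := by
      haveI : (Cfsg.pCore 3 H).Normal := by infer_instance
      rw [show k * el e i4 * k⁻¹ * (el e i4)⁻¹ = k * (el e i4 * k⁻¹ * (el e i4)⁻¹) by group]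
      exact mul_mem hk (Subgroup.Normal.conj_mem inferInstance _ (inv_mem hk) _)
    have := key _ hc
    rwa [wim_mul, wim_mul, wim_mul, wim_inv, wim_inv, wim_el e hi4] at this
  · intro hx
    let N : Subgroup H :=
      { carrier := {z | isJ (wim e z)}
        one_mem' := by rw [Set.mem_ofPred_eq, wim_one]; exact isJ_one
        mul_mem' := fun ha hb => by rw [Set.mem_ofPred_eq, wim_mul]; exact isJ_mul ha hb
        inv_mem' := fun ha => by rw [Set.mem_ofPred_eq, wim_inv]; exact isJ_inv ha }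
    have hn : N.Normal := ⟨fun a ha c => by
      show isJ (wim e (c * a * c⁻¹))
      rw [wim_mul, wim_mul, wim_inv]
      exact isJ_conj ha (wim_mem e c)⟩
    have hp : IsPGroup 3 N := fun a => ⟨1, Subtype.ext (wim_inj e (by
      rw [pow_one, Subgroup.coe_pow, wim_pow, pow_three, ← mul_assoc, isJ_cube a.2,
        OneMemClass.coe_one, wim_one]))⟩
    exact Subgroup.mem_map.2 ⟨h, CfsgLib.PCore.le_pCore hn hp (show h ∈ N from hx), rfl⟩

theorem card_centralizer_jrep [Finite G] (hJ : J = (Cfsg.pCore 3 ↥H).map H.subtype)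
    (hC : ∀ j ∈ J, j ≠ 1 → Subgroup.centralizer ({j} : Set G) ≤ H) {j : H}
    (hj : isJ (wim e j)) (hj1 : j ≠ 1) :
    Nat.card (Subgroup.centralizer ({(j : G)} : Set G)) =
      (M4set.filter fun x => x * wim e j = wim e j * x).card := by
  classical
  have hle := hC _ ((memJ_iff e hJ j).2 hj) (fun h => hj1 (Subtype.ext h))
  rw [← Nat.card_eq_finsetCard]
  refine Nat.card_congr
    { toFun := fun g => ⟨wim e ⟨g, hle g.2⟩, Finset.mem_filter.2 ⟨wim_mem' e _, by
        rw [← wim_mul, ← wim_mul]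
        exact congrArg (wim e) (Subtype.ext (Subgroup.mem_centralizer_singleton_iff.1 g.2))⟩⟩
      invFun := fun x => ⟨(el e x.1 : G), Subgroup.mem_centralizer_singleton_iff.2 (by
        obtain ⟨hx, hcomm⟩ := Finset.mem_filter.1 x.2
        have hx' := mem_M4set_iff.1 hx
        exact congrArg Subtype.val (wim_inj e (a := el e x.1 * j) (b := j * el e x.1)
          (by rw [wim_mul, wim_mul, wim_el e hx', hcomm])))⟩
      left_inv := fun g => Subtype.ext (ge_eq e (mem_M4set_iff.1 (wim_mem' e _)) rfl).symm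
      right_inv := fun x => Subtype.ext ?_ }
  exact Eq.trans (congrArg (wim e) (Subtype.ext rfl))
    (wim_el e (mem_M4set_iff.1 (Finset.mem_filter.1 x.2).1))

theorem card_centralizer_conj [Finite G] (g a : G) :
    Nat.card (Subgroup.centralizer ({g * a * g⁻¹} : Set G)) =
      Nat.card (Subgroup.centralizer ({a} : Set G)) := by
  refine Nat.card_congr (((MulAut.conj g⁻¹).toEquiv).subtypeEquiv fun x => ?_)
  simp only [MulEquiv.toEquiv_eq_coe, EquivLike.coe_coe, MulAut.conj_apply,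
    Subgroup.mem_centralizer_singleton_iff, inv_inv]
  constructor
  · intro h
    calc g⁻¹ * x * g * a = g⁻¹ * (x * (g * a * g⁻¹)) * g := by group
      _ = g⁻¹ * (g * a * g⁻¹ * x) * g := by rw [h]
      _ = a * (g⁻¹ * x * g) := by group
  · intro h
    calc x * (g * a * g⁻¹) = g * (g⁻¹ * x * g * a) * g⁻¹ := by group
      _ = g * (a * (g⁻¹ * x * g)) * g⁻¹ := by rw [h]
      _ = g * a * g⁻¹ * x := by group

theorem jclass [Finite G] (hJ : J = (Cfsg.pCore 3 ↥H).map H.subtype)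
    (hC : ∀ j ∈ J, j ≠ 1 → Subgroup.centralizer ({j} : Set G) ≤ H) {j : G} (hj : j ∈ J)
    (hj1 : j ≠ 1) :
    ∃ p : Fin 3, (∃ c : H, (c : G) * ge e (jrep p) * (c : G)⁻¹ = j) ∧
      Nat.card (Subgroup.centralizer ({j} : Set G)) = ![108, 54, 81] p := by
  have hjH : j ∈ H := (hJ.le.trans (Subgroup.map_subtype_le _)) hj
  have hJj := (memJ_iff e hJ ⟨j, hjH⟩).1 hj
  obtain ⟨t, ht⟩ := exists_Jel hJj
  have ht1 : Jel t ≠ 1 := by
    rw [ht, ← wim_one e]
    exact fun h => hj1 (congrArg Subtype.val (wim_inj e h))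
  obtain ⟨p, a, b, i, c, hp⟩ := jrep_classes t ht1
  obtain ⟨hjp, hjp1⟩ := jrep_mem p
  have hmem : sg (jrep p).left * sgn (jrep p).right = 1 := mem_M4_iff.1 (isJ_iff.1 hjp).1
  have he : (⟨j, hjH⟩ : H) =
      el e (conjC 0 a b i c) * el e (jrep p) * (el e (conjC 0 a b i c))⁻¹ := by
    refine wim_inj e ?_
    rw [wim_mul, wim_mul, wim_inv, wim_el e (conjC_mem _ _ _ _ _), wim_el e hmem, hp, ht]
  have heG : (el e (conjC 0 a b i c) : G) * ge e (jrep p) * (el e (conjC 0 a b i c) : G)⁻¹ = j := by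
    simpa [ge] using (congrArg Subtype.val he).symm
  refine ⟨p, ⟨_, heG⟩, ?_⟩
  rw [← heG, card_centralizer_conj, card_centralizer_jrep e hJ hC (by rw [wim_el e hmem]; exact hjp)
    (fun h => hjp1 (by rw [← wim_el e hmem, h, wim_one])), wim_el e hmem, jrep_centralizer]

/-- `H` controls conjugacy in `J`. -/
theorem conj_mem_H [Finite G] (e : H ≃* M4) (hJ : J = (Cfsg.pCore 3 ↥H).map H.subtype)
    (hC : ∀ j ∈ J, j ≠ 1 → Subgroup.centralizer ({j} : Set G) ≤ H) {j : G} (hj : j ∈ J)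
    (hj1 : j ≠ 1) {g : G} (hg : g * j * g⁻¹ ∈ J) : g ∈ H := by
  have hne : g * j * g⁻¹ ≠ 1 := fun h => hj1 (by simpa using h)
  obtain ⟨p, ⟨c, hc⟩, hp⟩ := jclass e hJ hC hj hj1
  obtain ⟨q, ⟨d, hd⟩, hq⟩ := jclass e hJ hC hg hne
  rw [card_centralizer_conj, hp] at hq
  have hpq : p = q := (by decide : ∀ a b : Fin 3, ![108, 54, 81] a = ![108, 54, 81] b → a = b) p q hq
  subst hpq
  have h1 : (c : G) * (d : G)⁻¹ * g ∈ Subgroup.centralizer ({j} : Set G) := by
    rw [Subgroup.mem_centralizer_singleton_iff]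
    calc (c : G) * (d : G)⁻¹ * g * j = (c : G) * (d : G)⁻¹ * (g * j * g⁻¹) * g := by group
      _ = (c : G) * (d : G)⁻¹ * ((d : G) * ge e (jrep p) * (d : G)⁻¹) * g := by rw [hd]
      _ = (c : G) * ge e (jrep p) * (c : G)⁻¹ * ((c : G) * (d : G)⁻¹ * g) := by group
      _ = j * ((c : G) * (d : G)⁻¹ * g) := by rw [hc]
  have h2 := hC j hj hj1 h1
  rw [show g = (d : G) * (c : G)⁻¹ * ((c : G) * (d : G)⁻¹ * g) by group]
  exact mul_mem (mul_mem d.2 (inv_mem c.2)) h2

/-- The two classes of involutions of `H` do not fuse. -/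
theorem not_isConj_z_c [Finite G] (hJ : J = (Cfsg.pCore 3 ↥H).map H.subtype)
    (hC : ∀ j ∈ J, j ≠ 1 → Subgroup.centralizer ({j} : Set G) ≤ H) :
    ¬ IsConj (ge e gC) (ge e z0) := by
  intro hconj
  obtain ⟨g, hg⟩ := isConj_iff.1 hconj
  have mC : sg gC.left * sgn gC.right = 1 := base_mem _ (by simp)
  have mz : sg z0.left * sgn z0.right = 1 := base_mem _ (by simp)
  have me : ∀ p, sg (jrep p).left * sgn (jrep p).right = 1 := fun p =>
    mem_M4_iff.1 (isJ_iff.1 (jrep_mem p).1).1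
  have hJm : ∀ p, ge e (jrep p) ∈ J := fun p =>
    (memJ_iff e hJ _).2 (by rw [wim_el e (me p)]; exact (jrep_mem p).1)
  have hne : ∀ p, ge e (jrep p) ≠ 1 := fun p h => (jrep_mem p).2 (by
    rw [← wim_el e (me p), show el e (jrep p) = 1 from Subtype.ext h, wim_one])
  let Cz : Subgroup G := Subgroup.centralizer ({ge e z0} : Set G)
  have hez : ge e (jrep 0) ∈ Cz := Subgroup.mem_centralizer_singleton_iff.2
    (congrArg Subtype.val (wim_inj e (a := el e (jrep 0) * el e z0) (b := el e z0 * el e (jrep 0))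
      (by rw [wim_mul, wim_mul, wim_el e (me 0), wim_el e mz, gC_fix.2])))
  have hfC : ge e (jrep 1) * ge e gC = ge e gC * ge e (jrep 1) :=
    congrArg Subtype.val (wim_inj e (a := el e (jrep 1) * el e gC) (b := el e gC * el e (jrep 1))
      (by rw [wim_mul, wim_mul, wim_el e (me 1), wim_el e mC, gC_fix.1]))
  have hfz : g * ge e (jrep 1) * g⁻¹ ∈ Cz := by
    refine Subgroup.mem_centralizer_singleton_iff.2 ?_
    rw [← hg]
    calc g * ge e (jrep 1) * g⁻¹ * (g * ge e gC * g⁻¹)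
        = g * (ge e (jrep 1) * ge e gC) * g⁻¹ := by group
      _ = g * (ge e gC * ge e (jrep 1)) * g⁻¹ := by rw [hfC]
      _ = g * ge e gC * g⁻¹ * (g * ge e (jrep 1) * g⁻¹) := by group
  haveI : Fact (Nat.Prime 3) := ⟨Nat.prime_three⟩
  let E : Subgroup Cz := Subgroup.zpowers ⟨ge e (jrep 0), hez⟩
  have he3 : ge e (jrep 0) ^ 3 = 1 := by
    rw [pow_three, ← mul_assoc]
    exact wim_cube e (by rw [wim_el e (me 0)]; exact isJ_cube (jrep_mem 0).1)
  have hEp : IsPGroup 3 E := IsPGroup.of_card (n := 1) (by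
    rw [Nat.card_zpowers, Subgroup.orderOf_mk, orderOf_eq_prime he3 (hne 0), pow_one])
  obtain ⟨P, hEP⟩ := hEp.exists_le_sylow
  have hmemP : (⟨ge e (jrep 0), hez⟩ : Cz) ∈ (P : Subgroup Cz) := hEP (Subgroup.mem_zpowers _)
  have small : ∀ x : (P : Subgroup Cz),
      x * ⟨⟨ge e (jrep 0), hez⟩, hmemP⟩ = ⟨⟨ge e (jrep 0), hez⟩, hmemP⟩ * x →
      ∃ i : Fin 3, ((x : Cz) : G) = ge e (jrep 0) ^ i.val := by
    intro x hx
    have hx' : ((x : Cz) : G) * ge e (jrep 0) = ge e (jrep 0) * ((x : Cz) : G) :=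
      congrArg (fun y : (P : Subgroup Cz) => ((y : Cz) : G)) hx
    have hxH : ((x : Cz) : G) ∈ H :=
      hC _ (hJm 0) (hne 0) (Subgroup.mem_centralizer_singleton_iff.2 hx')
    let a : H := ⟨_, hxH⟩
    obtain ⟨n, hn⟩ := P.isPGroup' x
    have hn' : a ^ 3 ^ n = 1 := Subtype.ext (by
      simpa using congrArg (fun y : (P : Subgroup Cz) => ((y : Cz) : G)) hn)
    obtain ⟨m, -, hm'⟩ := (Nat.dvd_prime_pow Nat.prime_three).1 (orderOf_dvd_of_pow_eq_one hn')
    have hcard : orderOf a ∣ 648 := by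
      rw [← card_M4, ← Nat.card_congr e.toEquiv]; exact orderOf_dvd_natCard a
    rw [hm'] at hcard
    have hm4 : m ≤ 4 := by
      by_contra! hcon
      exact absurd ((pow_dvd_pow 3 hcon).trans hcard) (by norm_num)
    have h81 : a ^ 81 = 1 := orderOf_dvd_iff_pow_eq_one.1 (hm' ▸ pow_dvd_pow 3 hm4)
    obtain ⟨i, hi⟩ := centralizer_z_e _ (wim_mem' e a) (by
        rw [← wim_el e mz, ← wim_mul, ← wim_mul]
        exact congrArg (wim e) (Subtype.ext (Subgroup.mem_centralizer_singleton_iff.1 (x : Cz).2)))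
      (by
        rw [← wim_el e (me 0), ← wim_mul, ← wim_mul]
        exact congrArg (wim e) (Subtype.ext hx'))
      (by rw [← pow_mul, ← pow_mul, ← wim_pow, h81, wim_one])
    refine ⟨i, ?_⟩
    have : a = el e (jrep 0) ^ i.val := wim_inj e (by rw [wim_pow, wim_el e (me 0), hi])
    simpa [a] using congrArg Subtype.val this
  -- the centre of the Sylow subgroup is the group generated by `e₀`
  haveI : Nontrivial (P : Subgroup Cz) := ⟨⟨⟨_, hmemP⟩, 1, fun h =>
    hne 0 (congrArg (fun y : (P : Subgroup Cz) => ((y : Cz) : G)) h)⟩⟩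
  haveI : Nontrivial (Subgroup.center (P : Subgroup Cz)) := P.isPGroup'.center_nontrivial
  obtain ⟨z, hz⟩ := exists_ne (1 : Subgroup.center (P : Subgroup Cz))
  obtain ⟨i, hi⟩ := small z.1 ((Subgroup.mem_center_iff.1 z.2 _).symm)
  have hi0 : i ≠ 0 := by
    rintro rfl
    exact hz (Subtype.ext (Subtype.ext (Subtype.ext (by simpa using hi))))
  have hall : ∀ x : (P : Subgroup Cz), ∃ i : Fin 3, ((x : Cz) : G) = ge e (jrep 0) ^ i.val := by
    intro x
    refine small x ?_
    have hcz : ∀ y : (P : Subgroup Cz), y * z.1 = z.1 * y := Subgroup.mem_center_iff.1 z.2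
    obtain ⟨k, hk⟩ : ∃ k : ℕ, (⟨⟨ge e (jrep 0), hez⟩, hmemP⟩ : (P : Subgroup Cz)) = z.1 ^ k := by
      refine ⟨i.val, Subtype.ext (Subtype.ext ?_)⟩
      rw [Subgroup.coe_pow, Subgroup.coe_pow, hi, ← pow_mul]
      show ge e (jrep 0) = _
      fin_cases i
      · exact absurd rfl hi0
      · simp
      · rw [show (2 * 2 : ℕ) = 3 + 1 from rfl, pow_succ, he3, one_mul]
    rw [hk]
    exact ((Commute.pow_right (hcz x) k)).eq
  obtain ⟨c, hc⟩ : ∃ c : Cz, c * ⟨_, hfz⟩ * c⁻¹ ∈ (P : Subgroup Cz) := by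
    have hf3 : (⟨g * ge e (jrep 1) * g⁻¹, hfz⟩ : Cz) ^ 3 = 1 := Subtype.ext (by
      have h31 : ge e (jrep 1) ^ 3 = 1 := by
        rw [pow_three, ← mul_assoc]
        exact wim_cube e (by rw [wim_el e (me 1)]; exact isJ_cube (jrep_mem 1).1)
      rw [Subgroup.coe_pow, conj_pow, h31]
      simp)
    have hp : IsPGroup 3 (Subgroup.zpowers (⟨g * ge e (jrep 1) * g⁻¹, hfz⟩ : Cz)) :=
      IsPGroup.of_card (n := 1) (by
        rw [Nat.card_zpowers, orderOf_eq_prime hf3 (fun h => hne 1 (by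
          have := congrArg Subtype.val h
          simpa using this)), pow_one])
    obtain ⟨Q, hQ⟩ := hp.exists_le_sylow
    obtain ⟨c, hc⟩ := MulAction.exists_smul_eq Cz Q P
    refine ⟨c, ?_⟩
    rw [← hc]
    exact Subgroup.mem_map.2 ⟨_, hQ (Subgroup.mem_zpowers _), rfl⟩
  obtain ⟨i', hi'⟩ := hall ⟨_, hc⟩
  have hconj' : (c : G) * g * ge e (jrep 1) * ((c : G) * g)⁻¹ = ge e (jrep 0) ^ i'.val := by
    rw [← hi']
    show _ = (c : G) * (g * ge e (jrep 1) * g⁻¹) * (c : G)⁻¹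
    group
  have h1 := card_centralizer_conj ((c : G) * g) (ge e (jrep 1))
  rw [hconj', show ge e (jrep 0) ^ i'.val = ((el e (jrep 0) ^ i'.val : H) : G) from
    (Subgroup.coe_pow _ _ _).symm] at h1
  have hne' : el e (jrep 0) ^ i'.val ≠ 1 := by
    intro h
    have h' : ge e (jrep 0) ^ i'.val = 1 := by simpa using congrArg Subtype.val h
    rw [h'] at hconj'
    exact hne 1 (conj_eq_one_iff.1 hconj')
  have hJp : isJ (wim e (el e (jrep 0) ^ i'.val)) := (memJ_iff e hJ _).1 (by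
    rw [Subgroup.coe_pow]; exact pow_mem (hJm 0) _)
  rw [card_centralizer_jrep e hJ hC hJp hne',
    card_centralizer_jrep e hJ hC (by rw [wim_el e (me 1)]; exact (jrep_mem 1).1)
      (fun h => hne 1 (congrArg Subtype.val h)), wim_pow, wim_el e (me 0), wim_el e (me 1),
    jrep_centralizer 1, jrep0_pow i' (fun h => hne' (wim_inj e (by
      rw [wim_pow, wim_el e (me 0), h, wim_one])))] at h1
  exact absurd h1 (by decide)

/-- The conjugates of the central involution in `H`. -/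
theorem right_of_isConj_z [Finite G] (hJ : J = (Cfsg.pCore 3 ↥H).map H.subtype)
    (hC : ∀ j ∈ J, j ≠ 1 → Subgroup.centralizer ({j} : Set G) ≤ H) {a : H}
    (h : IsConj (ge e z0) (a : G)) : (wim e a).right = 1 := by
  by_contra hr
  obtain ⟨g, hg⟩ := isConj_iff.1 h
  have mz : sg z0.left * sgn z0.right = 1 := base_mem _ (by simp)
  have mC : sg gC.left * sgn gC.right = 1 := base_mem _ (by simp)
  have hsq : ge e z0 * ge e z0 = 1 := congrArg Subtype.val
    (wim_inj e (a := el e z0 * el e z0) (b := 1)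
      (by rw [wim_mul, wim_el e mz, base_facts.2.2.2.2.1, wim_one]))
  have h2 : a * a = 1 := Subtype.ext (by
    show (a : G) * a = 1
    rw [← hg, show g * ge e z0 * g⁻¹ * (g * ge e z0 * g⁻¹) = g * (ge e z0 * ge e z0) * g⁻¹ by
      group, hsq]
    group)
  obtain ⟨i, a', b, t, ht⟩ := t_class _ (wim_mem' e a) (by rw [← wim_mul, h2, wim_one]) hr
  have hc : IsConj (ge e gC) (a : G) := by
    refine isConj_iff.2 ⟨(el e (conjC t a' b i 0) : G), ?_⟩
    have he : el e (conjC t a' b i 0) * el e gC * (el e (conjC t a' b i 0))⁻¹ = a := by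
      refine wim_inj e ?_
      rw [wim_mul, wim_mul, wim_inv, wim_el e (conjC_mem _ _ _ _ _), wim_el e mC, ht]
    simpa [ge] using congrArg Subtype.val he
  exact not_isConj_z_c e hJ hC (hc.trans h.symm)

end CfsgLib.ThreeCubedWreath
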