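import Cfsg.Agent.Lib.ThreeCubedWreath.Local
import Cfsg.Agent.Lib.ThreeCubed.Main
import Cfsg.Agent.Lib.Chars17.IrrBasic
import Cfsg.Prelude.Def_TwoFusion
import Mathlib.RingTheory.RootsOfUnity.Complex

/-!
# A subgroup `3³ : S₄` with strongly closed core
-/

set_option autoImplicit false
set_option linter.style.haveILetI false
set_option linter.unusedSectionVars false

namespace CfsgLib.ThreeCubedWreath

open Cfsg CfsgLib.ThreeCubed CfsgLib.Characters Matrix
open scoped ComplexConjugate

attribute [local irreducible] M4set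

universe u

variable {G : Type u} [Group G] {H J : Subgroup G}

/-- Left factor after an element of the quotient. -/
theorem coset_conj [Finite G] {X : Subgroup G} (K : Subgroup X) (hKn : K.Normal) {u : X}
    (hu : ∀ k ∈ K, k * u = u * k → k = 1) {k : X} (hk : k ∈ K) :
    ∃ k' ∈ K, k' * u * k'⁻¹ = k * u := by
  let f : K → K := fun c => ⟨(c : X) * u * (c : X)⁻¹ * u⁻¹, by
    rw [show (c : X) * u * (c : X)⁻¹ * u⁻¹ = (c : X) * (u * (c : X)⁻¹ * u⁻¹) by group]
    exact mul_mem c.2 (hKn.conj_mem _ (inv_mem c.2) _)⟩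
  have hf : Function.Injective f := by
    intro a b hab
    have h1 : (a : X) * u * (a : X)⁻¹ = (b : X) * u * (b : X)⁻¹ := by
      simpa [f] using congrArg Subtype.val hab
    have h2 : ((b : X)⁻¹ * (a : X)) * u = u * ((b : X)⁻¹ * (a : X)) := by
      calc ((b : X)⁻¹ * (a : X)) * u
          = (b : X)⁻¹ * ((a : X) * u * (a : X)⁻¹) * (a : X) := by group
        _ = (b : X)⁻¹ * ((b : X) * u * (b : X)⁻¹) * (a : X) := by rw [h1]
        _ = u * ((b : X)⁻¹ * (a : X)) := by group
    exact Subtype.ext (inv_mul_eq_one.1 (hu _ (mul_mem (inv_mem b.2) a.2) h2)).symm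
  obtain ⟨c, hc⟩ := Finite.surjective_of_injective hf ⟨k, hk⟩
  refine ⟨c, c.2, ?_⟩
  rw [show k = (c : X) * u * (c : X)⁻¹ * u⁻¹ from (congrArg Subtype.val hc).symm]
  group

/-- A normal complement of order prime to the index consists of the elements killed by its order. -/
theorem mem_iff_pow_eq_one {X : Type u} [Group X] [Finite X] (K : Subgroup X) [K.Normal]
    (hco : (Nat.card K).Coprime K.index) (x : X) : x ∈ K ↔ x ^ Nat.card K = 1 := by
  refine ⟨fun hx => ?_, fun hx => ?_⟩
  · exact congrArg Subtype.val (pow_card_eq_one' (x := (⟨x, hx⟩ : K)))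
  · rw [← QuotientGroup.eq_one_iff]
    have h1 : (x : X ⧸ K) ^ Nat.card K = 1 := by rw [← QuotientGroup.mk_pow, hx, QuotientGroup.mk_one]
    have h2 : (x : X ⧸ K) ^ K.index = 1 := pow_card_eq_one'
    exact (pow_one _).symm.trans (hco ▸ pow_gcd_eq_one.2 ⟨h1, h2⟩)

/-- The centraliser of `w`. -/
abbrev Xw (e : H ≃* M4) : Subgroup G := Subgroup.centralizer ({ge e w0} : Set G)

/-- The data attached to the centraliser of `w`. -/
theorem section_data [Finite G] (e : H ≃* M4) (hJ : J = (Cfsg.pCore 3 ↥H).map H.subtype)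
    (hC : ∀ j ∈ J, j ≠ 1 → Subgroup.centralizer ({j} : Set G) ≤ H)
    (hsc : Cfsg.IsStronglyClosed J H) :
    ∃ K : Subgroup (Xw e), K.Normal ∧
      ¬ 3 ∣ Nat.card K ∧
      K.IsComplement' (H.subgroupOf (Xw e)) ∧
      K.index = 9 ∧
      (∀ k ∈ K, (k : G) * ge e d0 = ge e d0 * (k : G) → k = 1) ∧
      ∃ ν : Xw e →* ℂ, (∀ k ∈ K, ν k = 1) ∧
        (∀ u : Xw e, (u : G) = ge e d0 → ν u = 1) ∧
        (∀ u : Xw e, (u : G) = ge e w0 → ν u ≠ 1) := by
  classical
  have mw : sg w0.left * sgn w0.right = 1 := base_mem _ (by simp)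
  have md : sg d0.left * sgn d0.right = 1 := base_mem _ (by simp)
  have hdJ : ge e d0 ∈ J := (memJ_iff e hJ _).2 (by rw [wim_el e md]; exact base_facts.1)
  have hd1 : ge e d0 ≠ 1 := fun h => base_facts.2.1 (by
    rw [← wim_el e md, show el e d0 = 1 from Subtype.ext h, wim_one])
  have hwd : ge e d0 * ge e w0 = ge e w0 * ge e d0 :=
    congrArg Subtype.val (wim_inj e (a := el e d0 * el e w0) (b := el e w0 * el e d0)
      (by rw [wim_mul, wim_mul, wim_el e mw, wim_el e md, base_facts.2.2.1]))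
  let U : Subgroup (Xw e) := H.subgroupOf (Xw e)
  have shape : ∀ u : (Xw e), ∀ hu : (u : G) ∈ H, ∃ i j : Fin 3,
      wim e ⟨u, hu⟩ = w0 ^ i.val * d0 ^ j.val := fun u hu =>
    centralizer_w0 _ (wim_mem' e _) (by
      rw [← wim_el e mw, ← wim_mul, ← wim_mul]
      exact congrArg (wim e) (Subtype.ext (Subgroup.mem_centralizer_singleton_iff.1 u.2)))
  have Ucomm : ∀ a ∈ U, ∀ b ∈ U, a * b = b * a := by
    intro a ha b hb
    obtain ⟨i, j, hij⟩ := shape a ha
    obtain ⟨k, l, hkl⟩ := shape b hb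
    refine Subtype.ext (congrArg (fun x : H => (x : G)) (wim_inj e
      (a := ⟨(a : G), ha⟩ * ⟨(b : G), hb⟩) (b := ⟨(b : G), hb⟩ * ⟨(a : G), ha⟩) ?_))
    rw [wim_mul, wim_mul, hij, hkl]
    have hc : Commute w0 d0 := base_facts.2.2.1
    exact (((Commute.refl w0).pow_pow _ _).mul_right (hc.pow_pow _ _)).mul_left
      (((hc.symm).pow_pow _ _).mul_right ((Commute.refl d0).pow_pow _ _))
  -- the normaliser of `U` in `(Xw e)` is `U`
  have hnorm : ∀ g : (Xw e), g ∈ Subgroup.normalizer (U : Set (Xw e)) → g ∈ U := by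
    intro g hg
    have hdX : ge e d0 ∈ (Xw e) := Subgroup.mem_centralizer_singleton_iff.2 hwd
    have h1 : g * ⟨ge e d0, hdX⟩ * g⁻¹ ∈ U :=
      (Subgroup.mem_normalizer_iff.1 hg _).1 (show ge e d0 ∈ H from (el e d0).2)
    exact conj_mem_H e hJ hC hdJ hd1 (hsc.2 _ hdJ (g : G) h1)
  haveI : Fact (Nat.Prime 3) := ⟨Nat.prime_three⟩
  have hUp : IsPGroup 3 U := fun a => ⟨1, Subtype.ext (Subtype.ext (by
    obtain ⟨i, j, hij⟩ := shape a a.2
    have := wim_cube e (a := ⟨((a : (Xw e)) : G), a.2⟩) (by rw [hij]; exact w_d_cube i j)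
    simpa [pow_three, mul_assoc] using this))⟩
  obtain ⟨Q, hQ⟩ := hUp.exists_le_sylow
  have hQU : (Q : Subgroup (Xw e)) = H.subgroupOf (Xw e) := by
    refine le_antisymm ?_ hQ
    by_contra hle
    haveI : Group.IsNilpotent (Q : Subgroup (Xw e)) := Q.isPGroup'.isNilpotent
    have hlt : U.subgroupOf (Q : Subgroup (Xw e)) < ⊤ := by
      rw [lt_top_iff_ne_top]
      exact fun h => hle (Subgroup.subgroupOf_eq_top.1 h)
    obtain ⟨x, hx, hx'⟩ :=
      SetLike.exists_of_lt (Group.normalizerCondition_of_isNilpotent _ hlt)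
    refine hx' (hnorm _ ?_)
    haveI : Finite (U : Set (Xw e)) := Subtype.finite
    refine Subgroup.mem_normalizer_fintype fun n hn => ?_
    exact (Subgroup.mem_normalizer_iff.1 hx ⟨n, hQ hn⟩).1 hn
  have hP : Subgroup.normalizer ((Q : Subgroup (Xw e)) : Set (Xw e)) ≤
      Subgroup.centralizer ((Q : Subgroup (Xw e)) : Set (Xw e)) := by
    rw [hQU]
    intro g hg
    exact Subgroup.mem_centralizer_iff.2 fun n hn => Ucomm _ hn _ (hnorm g hg)
  let K : Subgroup (Xw e) := (MonoidHom.transferSylow Q hP).ker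
  have hKc : K.IsComplement' (Q : Subgroup (Xw e)) := MonoidHom.ker_transferSylow_isComplement' Q hP
  have hK3 : ¬ 3 ∣ Nat.card K := MonoidHom.not_dvd_card_ker_transferSylow Q hP
  have hidx : K.index = 9 := by
    rw [hKc.symm.index_eq_card, hQU]
    have hwX : ge e w0 ∈ (Xw e) := Subgroup.mem_centralizer_singleton_iff.2 rfl
    have hdX : ge e d0 ∈ (Xw e) := Subgroup.mem_centralizer_singleton_iff.2 hwd
    let f : Fin 3 × Fin 3 → U := fun p =>
      ⟨⟨ge e w0, hwX⟩ ^ p.1.val * ⟨ge e d0, hdX⟩ ^ p.2.val,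
        mul_mem (pow_mem (show ge e w0 ∈ H from (el e w0).2) _)
          (pow_mem (show ge e d0 ∈ H from (el e d0).2) _)⟩
    have hf : ∀ p, ∀ h : ((f p : (Xw e)) : G) ∈ H,
        wim e ⟨((f p : (Xw e)) : G), h⟩ = w0 ^ p.1.val * d0 ^ p.2.val := fun p h => by
      rw [show (⟨((f p : (Xw e)) : G), h⟩ : H) = el e w0 ^ p.1.val * el e d0 ^ p.2.val from
        Subtype.ext (by simp [f]), wim_mul, wim_pow, wim_pow, wim_el e mw, wim_el e md]
    rw [show Nat.card U = Nat.card (Fin 3 × Fin 3) from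
      (Nat.card_eq_of_bijective f ⟨fun p q h => ?_, fun u => ?_⟩).symm]
    · simp
    · have h' := hf p (f p).2
      simp only [h] at h'
      rw [hf q (f q).2] at h'
      exact (by decide +kernel : ∀ a b : Fin 3 × Fin 3,
        w0 ^ a.1.val * d0 ^ a.2.val = w0 ^ b.1.val * d0 ^ b.2.val → a = b) p q h'.symm
    · obtain ⟨i, j, hij⟩ := shape u u.2
      refine ⟨(i, j), Subtype.ext (Subtype.ext ?_)⟩
      have hm : ((f (i, j) : (Xw e)) : G) ∈ H := (f (i, j)).2
      exact congrArg (fun x : H => (x : G)) (wim_inj e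
        (a := ⟨((f (i, j) : (Xw e)) : G), hm⟩) (b := ⟨((u : (Xw e)) : G), u.2⟩)
        (by rw [hf (i, j) hm, hij]))
  refine ⟨K, inferInstance, hK3, by rw [← hQU]; exact hKc, hidx, ?_, ?_⟩
  · intro k hk hkd
    have hkH : (k : G) ∈ H := hC _ hdJ hd1 (Subgroup.mem_centralizer_singleton_iff.2 hkd)
    refine Subgroup.disjoint_def.1 hKc.disjoint hk ?_
    rw [hQU]; exact hkH
  · -- a linear character
    obtain ⟨ζ, hζ⟩ : ∃ ζ : ℂ, IsPrimitiveRoot ζ 3 :=
      ⟨_, Complex.isPrimitiveRoot_exp 3 (by norm_num)⟩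
    let rv : W → ℕ := fun x => match x.right with
      | .r i => (i : ZMod 3).val
      | .sr _ => 0
    have hrv : ∀ i j k l : Fin 3,
        rv (w0 ^ i.val * d0 ^ j.val * (w0 ^ k.val * d0 ^ l.val)) =
          (rv (w0 ^ i.val * d0 ^ j.val) + rv (w0 ^ k.val * d0 ^ l.val)) % 3 := by
      decide +kernel
    have memH : ∀ a : (Q : Subgroup (Xw e)), ((a : (Xw e)) : G) ∈ H := fun a => hQU.le a.2
    let μ : (Q : Subgroup (Xw e)) →* ℂ :=
      { toFun := fun a => ζ ^ rv (wim e ⟨((a : (Xw e)) : G), memH a⟩)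
        map_one' := by
          rw [show (⟨((((1 : (Q : Subgroup (Xw e))) : (Xw e))) : G), memH 1⟩ : H) = 1 from Subtype.ext rfl,
            wim_one]
          rfl
        map_mul' := fun a b => by
          obtain ⟨i, j, hij⟩ := shape a (memH a)
          obtain ⟨k, l, hkl⟩ := shape b (memH b)
          rw [show (⟨((((a * b : (Q : Subgroup (Xw e))) : (Xw e))) : G), memH (a * b)⟩ : H) =
            ⟨((a : (Xw e)) : G), memH a⟩ * ⟨((b : (Xw e)) : G), memH b⟩ from Subtype.ext rfl, wim_mul,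
            hij, hkl, hrv, ← pow_add]
          have key : ∀ n : ℕ, ζ ^ (n % 3) = ζ ^ n := fun n => by
            have h := pow_mod_orderOf ζ n
            rwa [← hζ.eq_orderOf] at h
          exact key _ }
    have hval : ∀ (u : (Xw e)) (hu : u ∈ (Q : Subgroup (Xw e))) (x : W),
        sg x.left * sgn x.right = 1 → (u : G) = ge e x →
          MonoidHom.transferSylow Q hP u = (⟨u, hu⟩ : (Q : Subgroup (Xw e))) ^ (Q : Subgroup (Xw e)).index ∧
            μ ⟨u, hu⟩ = ζ ^ rv x := by
      intro u hu x hx hux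
      refine ⟨by rw [MonoidHom.transferSylow_eq_pow Q hP u hu]; rfl, ?_⟩
      show ζ ^ rv _ = _
      rw [show (⟨(u : G), memH ⟨u, hu⟩⟩ : H) = el e x from Subtype.ext hux, wim_el e hx]
    refine ⟨μ.comp (MonoidHom.transferSylow Q hP), fun k hk => ?_, fun u hu => ?_, fun u hu => ?_⟩
    · rw [MonoidHom.comp_apply, MonoidHom.mem_ker.1 hk, map_one]
    · have huQ : u ∈ (Q : Subgroup (Xw e)) := by
        rw [hQU]; show (u : G) ∈ H; rw [hu]; exact (el e d0).2
      obtain ⟨h1, h2⟩ := hval u huQ d0 md hu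
      rw [MonoidHom.comp_apply, h1, map_pow, h2]
      rw [show rv d0 = 0 from rfl, pow_zero, one_pow]
    · have huQ : u ∈ (Q : Subgroup (Xw e)) := by
        rw [hQU]; show (u : G) ∈ H; rw [hu]; exact (el e w0).2
      obtain ⟨h1, h2⟩ := hval u huQ w0 mw hu
      rw [MonoidHom.comp_apply, h1, map_pow, h2, show rv w0 = 1 from rfl, pow_one]
      exact fun h => Q.not_dvd_index (hζ.dvd_of_pow_eq_one _ h)

set_option maxHeartbeats 1000000 in
/-- A subgroup `3³ : S₄` with strongly closed core and all centralisers inside is everything. -/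
theorem eq_top4 [Finite G] (e : H ≃* M4) (hJ : J = (Cfsg.pCore 3 ↥H).map H.subtype)
    (hC : ∀ j ∈ J, j ≠ 1 → Subgroup.centralizer ({j} : Set G) ≤ H)
    (hsc : Cfsg.IsStronglyClosed J H) : H = ⊤ := by
  classical
  letI : Fintype G := Fintype.ofFinite G
  letI : Fintype H := Fintype.ofFinite H
  obtain ⟨K, hKn, hK3, hKc, hidx, hfix, ν, hνK, hνd, hνw⟩ := section_data e hJ hC hsc
  haveI := hKn
  letI : Fintype (Xw e) := Fintype.ofFinite (Xw e)
  letI : Fintype K := Fintype.ofFinite K
  have hJH : J ≤ H := hsc.1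
  have mw : sg w0.left * sgn w0.right = 1 := base_mem _ (by simp)
  have md : sg d0.left * sgn d0.right = 1 := base_mem _ (by simp)
  have mz : sg z0.left * sgn z0.right = 1 := base_mem _ (by simp)
  have my : sg y0.left * sgn y0.right = 1 := base_mem _ (by simp)
  have mt : sg t0.left * sgn t0.right = 1 := base_mem _ (by simp)
  have hcard : Nat.card H = 648 := by rw [Nat.card_congr e.toEquiv, card_M4]
  have hwd : ge e d0 * ge e w0 = ge e w0 * ge e d0 :=
    congrArg Subtype.val (wim_inj e (a := el e d0 * el e w0) (b := el e w0 * el e d0)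
      (by rw [wim_mul, wim_mul, wim_el e mw, wim_el e md, base_facts.2.2.1]))
  let wX : (Xw e) := ⟨ge e w0, Subgroup.mem_centralizer_singleton_iff.2 rfl⟩
  let dX : (Xw e) := ⟨ge e d0, Subgroup.mem_centralizer_singleton_iff.2 hwd⟩
  have wcentral : ∀ x : (Xw e), x * wX = wX * x := fun x =>
    Subtype.ext (Subgroup.mem_centralizer_singleton_iff.1 x.2)
  have hco9 : (Nat.card K).Coprime 9 := by
    rw [show (9 : ℕ) = 3 ^ 2 from rfl]
    exact ((Nat.prime_three.coprime_iff_not_dvd.mpr hK3).symm).pow_right 2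
  have hco : (Nat.card K).Coprime K.index := hidx ▸ hco9
  have hcardX : Nat.card (Xw e) = Nat.card K * 9 := by rw [← hidx, Subgroup.card_mul_index]
  have w3 : ge e w0 ^ 3 = 1 := by
    rw [pow_three, ← mul_assoc]
    exact wim_cube e (by rw [wim_el e mw]; exact base_facts.2.2.2.1)
  -- from `k w` back to `w`
  have recover : ∀ k ∈ K, ∃ m : ℕ, ((k * wX : (Xw e)) : G) ^ m = ge e w0 := by
    intro k hk
    obtain ⟨m, hm1, hm2⟩ := Nat.chineseRemainder
      ((Nat.prime_three.coprime_iff_not_dvd.mpr hK3)) 1 0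
    refine ⟨m, ?_⟩
    rw [← Subgroup.coe_pow, (show Commute k wX from wcentral k).mul_pow]
    have h1 : k ^ m = 1 := by
      obtain ⟨c, hc⟩ := Nat.modEq_zero_iff_dvd.1 hm2
      rw [hc, pow_mul, (mem_iff_pow_eq_one K hco k).1 hk, one_pow]
    rw [h1, one_mul, Subgroup.coe_pow, pow_eq_pow_of_modEq hm1 w3, pow_one]
  let supW : (Xw e) → Prop := fun x => x * wX⁻¹ ∈ K
  have supW_eq : ∀ x, supW x → ∃ k ∈ K, x = k * wX := fun x hx => ⟨_, hx, by group⟩
  have hTIW : ∀ x y : (Xw e), supW x → supW y → ∀ g : G, g * x * g⁻¹ = y → g ∈ (Xw e) := by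
    intro x y hx hy g hg
    obtain ⟨k, hk, rfl⟩ := supW_eq x hx
    obtain ⟨l, hl, rfl⟩ := supW_eq y hy
    obtain ⟨m, hm1, hm2⟩ := Nat.chineseRemainder
      ((Nat.prime_three.coprime_iff_not_dvd.mpr hK3)) 1 0
    have hpow : ∀ c ∈ K, ((c * wX : (Xw e)) : G) ^ m = ge e w0 := by
      intro c hc
      rw [← Subgroup.coe_pow, (show Commute c wX from wcentral c).mul_pow]
      have h1 : c ^ m = 1 := by
        obtain ⟨n, hn⟩ := Nat.modEq_zero_iff_dvd.1 hm2
        rw [hn, pow_mul, (mem_iff_pow_eq_one K hco c).1 hc, one_pow]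
      rw [h1, one_mul, Subgroup.coe_pow, pow_eq_pow_of_modEq hm1 w3, pow_one]
    have h2 := congrArg (· ^ m) hg
    simp only [conj_pow, hpow k hk, hpow l hl] at h2
    exact Subgroup.mem_centralizer_singleton_iff.2 (mul_inv_eq_iff_eq_mul.1 h2)
  let supY : H → Prop := fun h => rot3 (wim e h) ∧ h * h * h ≠ 1
  have hYJ : ∀ h : H, supY h → ((h : G) * h * h) ∈ J ∧ (h : G) * h * h ≠ 1 := by
    intro h hh
    refine ⟨(memJ_iff e hJ (h * h * h)).2 ?_, fun hc => hh.2 (Subtype.ext hc)⟩
    rw [wim_mul, wim_mul]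
    refine cube_y _ (wim_mem' e h) hh.1 fun hc => hh.2 (wim_inj e ?_)
    rw [wim_mul, wim_mul, hc, wim_one]
  have hTIY : ∀ x y : H, supY x → supY y → ∀ g : G, g * x * g⁻¹ = y → g ∈ H := by
    intro x y hx hy g hg
    refine conj_mem_H e hJ hC (hYJ x hx).1 (hYJ x hx).2 ?_
    rw [show g * ((x : G) * x * x) * g⁻¹ = g * x * g⁻¹ * (g * x * g⁻¹) * (g * x * g⁻¹) by group, hg]
    exact (hYJ y hy).1
  let thW : (Xw e) → ℂ := fun x => if x * wX⁻¹ ∈ K then -3 else 0
  let thY : H → ℂ := fun h => (fY (wim e h) : ℂ)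
  have hW0 : ∀ x, ¬ supW x → thW x = 0 := fun x hx => if_neg hx
  have fY_supp : ∀ h : H, ¬ supY h → fY (wim e h) = 0 := by
    intro h hh
    refine if_neg fun hc => hh ⟨hc.1, fun h3 => hc.2 ?_⟩
    rw [← wim_mul, ← wim_mul, h3, wim_one]
  have hY0 : ∀ h, ¬ supY h → thY h = 0 := fun h hh => by simp [thY, fY_supp h hh]
  have hWc : IsClassFunction (Xw e) thW := by
    intro x g
    have hh : g * x * g⁻¹ * wX⁻¹ = g * (x * wX⁻¹) * g⁻¹ := by
      have hcm : g⁻¹ * wX⁻¹ = wX⁻¹ * g⁻¹ := by rw [← _root_.mul_inv_rev, ← _root_.mul_inv_rev, wcentral]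
      rw [mul_assoc (g * x) g⁻¹ wX⁻¹, hcm]
      group
    simp only [thW, hh]
    congr 1
    exact propext ⟨fun h => by
      simpa [mul_assoc] using hKn.conj_mem _ h g⁻¹, fun h => hKn.conj_mem _ h g⟩
  have hYc : IsClassFunction H thY := by
    intro h c
    show ((fY (wim e (c * h * c⁻¹)) : ℤ) : ℂ) = (fY (wim e h) : ℂ)
    congr 1
    have h3 : ∀ a b : W, a * b * a⁻¹ * (a * b * a⁻¹) * (a * b * a⁻¹) = a * (b * b * b) * a⁻¹ :=
      fun a b => by group
    have hr : ∀ a b : W, rot3 (a * b * a⁻¹) ↔ rot3 b := fun a b => by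
      show (SemidirectProduct.rightHom (a * b * a⁻¹) = _ ∨
        SemidirectProduct.rightHom (a * b * a⁻¹) = _) ↔ _
      rw [map_mul, map_mul, map_inv]
      exact (by decide +kernel : ∀ p q : D3, (p * q * p⁻¹ = .r 1 ∨ p * q * p⁻¹ = .r 2) ↔
        (q = .r 1 ∨ q = .r 2)) _ _
    simp only [fY, wim_mul, wim_inv, h3, conj_eq_one_iff, ne_eq, hr]
  let FW : G → ℂ := indFun (Xw e) thW
  let FY : G → ℂ := indFun H thY
  have cW : IsClassFunction G FW := CfsgLib.Induction.isClassFunction_indFun (Xw e) thW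
  have cY : IsClassFunction G FY := CfsgLib.Induction.isClassFunction_indFun H thY
  let F : G → ℂ := FW + FY
  have cF : IsClassFunction G F := isClassFunction_add cW cY
  -- the two parts are disjoint
  have hdisj : ∀ h : H, supY h → FW (h : G) = 0 := by
    intro h hh
    show indFun (Xw e) thW (h : G) = 0
    rw [CfsgLib.Induction.indFun_apply, Finset.sum_eq_zero, mul_zero]
    intro c _
    by_cases hm : c⁻¹ * (h : G) * c ∈ (Xw e)
    · rw [CfsgLib.Induction.extendByZero_mem _ _ hm]
      refine hW0 _ fun hs => hh.2 ?_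
      obtain ⟨k, hk, hkw⟩ := supW_eq _ hs
      have h9 : (k * wX) ^ 9 = 1 := by
        rw [← hkw]
        refine Subtype.ext ?_
        rw [Subgroup.coe_pow, OneMemClass.coe_one]
        show (c⁻¹ * (h : G) * c) ^ 9 = 1
        rw [show c⁻¹ * (h : G) * c = c⁻¹ * (h : G) * (c⁻¹)⁻¹ by group, conj_pow]
        have := isJ_cube (cube_y _ (wim_mem' e h) hh.1 (fun hc => hh.2 (wim_inj e (by
          rw [wim_mul, wim_mul, hc, wim_one]))))
        rw [← wim_mul, ← wim_mul] at this
        have h' := wim_cube e this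
        rw [show (h : G) ^ 9 = ((h * h * h : H) : G) * ((h * h * h : H) : G) *
          ((h * h * h : H) : G) by simp [pow_succ, mul_assoc], h']
        group
      rw [(show Commute k wX from wcentral k).mul_pow, show (wX : (Xw e)) ^ 9 = 1 from Subtype.ext (by
        rw [Subgroup.coe_pow, show (9 : ℕ) = 3 * 3 from rfl, pow_mul]
        simp [wX, w3]), mul_one] at h9
      have hk1 : k = 1 :=
        (pow_one k).symm.trans (hco9 ▸ pow_gcd_eq_one.2 ⟨(mem_iff_pow_eq_one K hco k).1 hk, h9⟩)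
      rw [hk1, one_mul] at hkw
      have h3 : (c⁻¹ * (h : G) * c) ^ 3 = 1 := by
        rw [show c⁻¹ * (h : G) * c = ge e w0 from congrArg Subtype.val hkw, w3]
      rw [show c⁻¹ * (h : G) * c = c⁻¹ * (h : G) * (c⁻¹)⁻¹ by group, conj_pow,
        conj_eq_one_iff] at h3
      exact Subtype.ext (by simpa [pow_three, mul_assoc] using h3)
    · rw [CfsgLib.Induction.extendByZero_notMem _ _ hm]
  -- sums
  have sumX : ∀ f : (Xw e) → ℂ, ∑ x : (Xw e), thW x * f x = -3 * ∑ k : K, f ((k : (Xw e)) * wX) := by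
    intro f
    rw [Finset.mul_sum]
    simp only [thW, ite_mul, zero_mul]
    rw [← Finset.sum_filter]
    refine Finset.sum_bij' (fun x hx => ⟨x * wX⁻¹, (Finset.mem_filter.1 hx).2⟩)
      (fun k _ => (k : (Xw e)) * wX) (fun _ _ => Finset.mem_univ _)
      (fun k _ => Finset.mem_filter.2 ⟨Finset.mem_univ _, by simp⟩)
      (fun x _ => by simp) (fun k _ => by simp) (fun x _ => by simp)
  have sumH : ∀ g : W → ℂ, ∑ h : H, g (wim e h) = ∑ x ∈ M4set, g x := by
    intro g
    letI : Fintype M4 := Fintype.ofFinite M4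
    rw [← sum_M4 g]
    exact Fintype.sum_equiv e.toEquiv _ _ fun h => rfl
  have hXne : (Nat.card (Xw e) : ℂ) ≠ 0 := CfsgLib.Induction.natCard_ne_zero'
  have innerWW : classInner FW FW = 1 := by
    rw [CfsgLib.SpecialClasses.inner_ind (Xw e) supW thW hW0 hW0 hWc hTIW, classInner,
      sumX fun x => conj (thW x)]
    have h1 : ∀ k : K, conj (thW ((k : (Xw e)) * wX)) = -3 := fun k => by simp [thW, map_ofNat]
    simp only [h1, Finset.sum_const, Finset.card_univ, ← Nat.card_eq_fintype_card, nsmul_eq_mul,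
      hcardX]
    have : (Nat.card K : ℂ) ≠ 0 := CfsgLib.Induction.natCard_ne_zero'
    push_cast
    field_simp
    norm_num
  have innerYY : classInner FY FY = 2 := by
    rw [CfsgLib.SpecialClasses.inner_ind H supY thY hY0 hY0 hYc hTIY, classInner, hcard]
    simp only [thY, map_intCast, ← Int.cast_mul]
    rw [sumH fun x => ((fY x * fY x : ℤ) : ℂ), ← Int.cast_sum, sums4.1]
    norm_num
  have innerYW : classInner FY FW = 0 := by
    rw [CfsgLib.Induction.classInner_indFun _ _ cW, classInner, Finset.sum_eq_zero, mul_zero]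
    intro h _
    by_cases hh : supY h
    · rw [hdisj h hh, map_zero, mul_zero]
    · rw [hY0 h hh, zero_mul]
  have innerWY : classInner FW FY = 0 := by
    rw [CfsgLib.Induction.classInner_swap, innerYW, map_zero]
  have add_inner : ∀ a b c : G → ℂ, classInner (a + b) c = classInner a c + classInner b c :=
    fun a b c => by simp [classInner, add_mul, Finset.sum_add_distrib, mul_add]
  have inner_add : ∀ a b c : G → ℂ, classInner c (a + b) = classInner c a + classInner c b :=
    fun a b c => by simp [classInner, mul_add, Finset.sum_add_distrib]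
  have innerFF : classInner F F = 3 := by
    simp only [F, add_inner, inner_add, innerWW, innerYY, innerWY, innerYW]
    norm_num
  -- conjugating `w` to its inverse
  let tH : H := el e t0
  have htw : (tH : G) * ge e w0 * (tH : G)⁻¹ = (ge e w0)⁻¹ := by
    have := wim_inj e (a := tH * el e w0 * tH⁻¹) (b := (el e w0)⁻¹) (by
      rw [wim_mul, wim_mul, wim_inv, wim_inv, wim_el e mt, wim_el e mw, t0_inverts])
    simpa [ge] using congrArg Subtype.val this
  have tconjX : ∀ x : (Xw e), (tH : G) * x * (tH : G)⁻¹ ∈ (Xw e) := by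
    intro x
    refine Subgroup.mem_centralizer_singleton_iff.2 ?_
    have h1 : ge e w0 = (tH : G) * (ge e w0)⁻¹ * (tH : G)⁻¹ := by
      have := congrArg (·⁻¹) htw
      simp only [_root_.mul_inv_rev, inv_inv] at this
      rw [← mul_assoc] at this
      exact this.symm
    have hx := Subgroup.mem_centralizer_singleton_iff.1 x.2
    have hx' : (x : G) * (ge e w0)⁻¹ = (ge e w0)⁻¹ * x :=
      ((show Commute (x : G) (ge e w0) from hx).inv_right).eq
    calc (tH : G) * x * (tH : G)⁻¹ * ge e w0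
        = (tH : G) * x * (tH : G)⁻¹ * ((tH : G) * (ge e w0)⁻¹ * (tH : G)⁻¹) := by rw [← h1]
      _ = (tH : G) * (x * (ge e w0)⁻¹) * (tH : G)⁻¹ := by group
      _ = (tH : G) * ((ge e w0)⁻¹ * x) * (tH : G)⁻¹ := by rw [hx']
      _ = (tH : G) * (ge e w0)⁻¹ * (tH : G)⁻¹ * ((tH : G) * x * (tH : G)⁻¹) := by group
      _ = ge e w0 * ((tH : G) * x * (tH : G)⁻¹) := by rw [← h1]
  -- integrality
  have hint : ∀ χ : IrrCharacter G, ∃ z : ℤ, classInner F (χ : G → ℂ) = z := by
    intro χ
    have hχX := CfsgLib.CharGalois.isCharacter_comp (isCharacter_of_irr χ.2) (Xw e).subtype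
    letI : Fintype (H.subgroupOf (Xw e)) := Fintype.ofFinite _
    let U := H.subgroupOf (Xw e)
    have hχU := CfsgLib.CharGalois.isCharacter_comp hχX U.subtype
    let av : (Xw e) → ℂ := fun u => (Nat.card K : ℂ)⁻¹ * ∑ k : K, (χ : G → ℂ) (((k : (Xw e)) * u : (Xw e)) : G)
    let η : (Xw e) → ℂ := fun u => (χ : G → ℂ) (u : G) - av u
    have hKne : (Nat.card K : ℂ) ≠ 0 := CfsgLib.Induction.natCard_ne_zero'
    -- the difference of the two inner products
    have hD : ∀ f : (Xw e) →* ℂ, (∀ k ∈ K, f k = 1) →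
        ∃ z : ℤ, (9 : ℂ)⁻¹ * ∑ u : U, η u * conj (f u) = z := by
      intro f hf
      obtain ⟨n1, h1⟩ := classInner_char_nat hχX (CfsgLib.Induction.isCharacter_monoidHom f)
      obtain ⟨n2, h2⟩ := classInner_char_nat hχU
        (CfsgLib.Induction.isCharacter_monoidHom (f.comp U.subtype))
      refine ⟨(n2 : ℤ) - n1, ?_⟩
      have hUc : Nat.card U = 9 := by rw [← hidx]; exact hKc.symm.index_eq_card.symm
      rw [classInner, hUc] at h2
      rw [classInner, hcardX] at h1
      simp only [η, sub_mul, Finset.sum_sub_distrib, mul_sub]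
      push_cast
      rw [← h2, ← h1]
      congr 1
      · rw [Fintype.sum_equiv (Equiv.ofBijective _ hKc).symm
          (fun x : (Xw e) => (χ : G → ℂ) ((Xw e).subtype x) * conj (f x))
          (fun p : K × U => (χ : G → ℂ) (((p.1 : (Xw e)) * (p.2 : (Xw e)) : (Xw e)) : G) *
            conj (f ((p.1 : (Xw e)) * (p.2 : (Xw e))))) (fun x => by
              have := (Equiv.ofBijective _ hKc).apply_symm_apply x
              exact (congrArg (fun y : (Xw e) => (χ : G → ℂ) (y : G) * conj (f y)) this).symm)]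
        rw [Fintype.sum_prod_type, Finset.sum_comm]
        simp only [map_mul f, hf _ (SetLike.coe_mem _), one_mul, av, mul_assoc, Finset.mul_sum,
          Finset.sum_mul]
        refine Finset.sum_congr rfl fun u _ => Finset.sum_congr rfl fun k _ => ?_
        push_cast
        field_simp
    -- vanishing off the cyclic subgroup of `w`
    have hU : ∀ u : U, (u : (Xw e)) ∈ ({1, wX, wX * wX} : Finset (Xw e)) ∨
        (∀ k ∈ K, k * (u : (Xw e)) = (u : (Xw e)) * k → k = 1) := by
      intro u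
      obtain ⟨i, j, hij⟩ := centralizer_w0 _ (wim_mem' e ⟨((u : (Xw e)) : G), u.2⟩) (by
        rw [← wim_el e mw, ← wim_mul, ← wim_mul]
        exact congrArg (wim e) (Subtype.ext (Subgroup.mem_centralizer_singleton_iff.1 (u : (Xw e)).2)))
      have hu : (u : (Xw e)) = wX ^ i.val * dX ^ j.val := by
        refine Subtype.ext ?_
        have := wim_inj e (a := ⟨((u : (Xw e)) : G), u.2⟩) (b := el e w0 ^ i.val * el e d0 ^ j.val) (by
          rw [hij, wim_mul, wim_pow, wim_pow, wim_el e mw, wim_el e md])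
        simpa [wX, dX] using congrArg Subtype.val this
      by_cases hj : j = 0
      · left
        subst hj
        rw [hu]
        fin_cases i <;> simp [pow_two]
      · right
        intro k hk hku
        refine hfix k hk ?_
        have h1 : Commute k (dX ^ j.val) := by
          have h2 : Commute k (wX ^ i.val) := (show Commute k wX from wcentral k).pow_right _
          rw [show dX ^ j.val = (wX ^ i.val)⁻¹ * (u : (Xw e)) by rw [hu]; group]
          exact h2.inv_right.mul_right hku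
        have hd3 : dX ^ 3 = 1 := Subtype.ext (by
          rw [Subgroup.coe_pow, pow_three, ← mul_assoc]
          exact wim_cube e (by rw [wim_el e md]; exact isJ_cube base_facts.1))
        have h3 : Commute k dX := by
          have hdd : dX = (dX ^ j.val) ^ j.val := by
            rw [← pow_mul]
            fin_cases j
            · exact absurd rfl hj
            · simp
            · rw [show (2 * 2 : ℕ) = 3 + 1 from rfl, pow_succ, hd3, one_mul]
          rw [hdd]; exact h1.pow_right _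
        exact congrArg Subtype.val h3.eq
    have hzero : ∀ u : U, (u : (Xw e)) ∉ ({1, wX, wX * wX} : Finset (Xw e)) → η u = 0 := by
      intro u hu
      have hh := (hU u).resolve_left hu
      have hconst : ∀ k : K, (χ : G → ℂ) (((k : (Xw e)) * u : (Xw e)) : G) = (χ : G → ℂ) ((u : (Xw e)) : G) := by
        intro k
        obtain ⟨k', -, hk'⟩ := coset_conj K hKn hh k.2
        rw [← hk']
        simp only [Subgroup.coe_mul, Subgroup.coe_inv]
        exact irr_isClassFunction χ _ _
      simp only [η, av, hconst, Finset.sum_const, Finset.card_univ, ← Nat.card_eq_fintype_card,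
        nsmul_eq_mul]
      field_simp
      ring
    have hwU : wX ∈ U := show ge e w0 ∈ H from (el e w0).2
    have hne : (1 : (Xw e)) ≠ wX ∧ (1 : (Xw e)) ≠ wX * wX ∧ wX ≠ wX * wX := by
      have h : ∀ x y : W, sg x.left * sgn x.right = 1 → sg y.left * sgn y.right = 1 → x ≠ y →
          ge e x ≠ ge e y := fun x y hx hy hxy hc => hxy (by
        rw [← wim_el e hx, ← wim_el e hy, show el e x = el e y from Subtype.ext hc])
      have hw1 : ge e w0 ≠ 1 := fun hc => base_facts.2.2.2.2.2.2.2.1 (by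
        rw [← wim_el e mw, show el e w0 = 1 from Subtype.ext hc, wim_one])
      have hw1' : wX ≠ 1 := fun hc => hw1 (congrArg Subtype.val hc)
      refine ⟨fun hc => hw1' hc.symm, fun hc => hw1' ?_, fun hc => hw1' ?_⟩
      · have h3 : wX ^ 3 = 1 := Subtype.ext (by simp [wX, w3])
        rw [pow_three, ← hc, mul_one] at h3
        exact h3
      · exact (mul_eq_left.1 hc.symm)
    have collapse : ∀ f : (Xw e) →* ℂ, (∀ k ∈ K, f k = 1) →
        ∑ u : U, η u * conj (f u) =
          η 1 * conj (f 1) + (η wX * conj (f wX) + η (wX * wX) * conj (f (wX * wX))) := by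
      intro f _
      have hmem : ∀ x ∈ ({1, wX, wX * wX} : Finset (Xw e)), x ∈ U := by
        intro x hx
        simp only [Finset.mem_insert, Finset.mem_singleton] at hx
        rcases hx with rfl | rfl | rfl
        · exact one_mem _
        · exact hwU
        · exact mul_mem hwU hwU
      rw [← Finset.sum_filter_add_sum_filter_not Finset.univ
        (fun u : U => (u : (Xw e)) ∈ ({1, wX, wX * wX} : Finset (Xw e))),
        Finset.sum_eq_zero (s := Finset.univ.filter fun u : U =>
          ¬ (u : (Xw e)) ∈ ({1, wX, wX * wX} : Finset (Xw e)))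
          (fun u hu => by rw [hzero u (Finset.mem_filter.1 hu).2, zero_mul]), add_zero]
      rw [show (∑ u ∈ Finset.univ.filter
          (fun u : U => (u : (Xw e)) ∈ ({1, wX, wX * wX} : Finset (Xw e))), η u * conj (f u)) =
          ∑ x ∈ ({1, wX, wX * wX} : Finset (Xw e)), η x * conj (f x) from
        Finset.sum_bij (fun u _ => (u : (Xw e))) (fun u hu => (Finset.mem_filter.1 hu).2)
          (fun u _ v _ h => Subtype.ext h)
          (fun x hx => ⟨⟨x, hmem x hx⟩, Finset.mem_filter.2 ⟨Finset.mem_univ _, hx⟩, rfl⟩)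
          (fun u _ => rfl)]
      rw [Finset.sum_insert (by simp [hne.1, hne.2.1]), Finset.sum_pair hne.2.2]
    -- symmetry under inversion
    have hsym : η (wX * wX) = η wX := by
      have hw2 : (tH : G) * ge e w0 * (tH : G)⁻¹ = ((wX * wX : (Xw e)) : G) := by
        rw [htw]
        refine inv_eq_of_mul_eq_one_right ?_
        simpa [wX, pow_three, mul_assoc] using w3
      have hc : ∀ g : G, (χ : G → ℂ) ((tH : G) * g * (tH : G)⁻¹) = (χ : G → ℂ) g := fun g =>
        irr_isClassFunction χ g _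
      have hsig : ∀ k : K, (⟨_, tconjX (k : (Xw e))⟩ : (Xw e)) ∈ K := by
        intro k
        refine (mem_iff_pow_eq_one K hco _).2 (Subtype.ext ?_)
        rw [Subgroup.coe_pow, conj_pow, ← Subgroup.coe_pow,
          (mem_iff_pow_eq_one K hco _).1 k.2]
        simp
      let σ : K → K := fun k => ⟨⟨_, tconjX (k : (Xw e))⟩, hsig k⟩
      have hσ : Function.Bijective σ := Finite.injective_iff_bijective.1 fun a b hab => by
        refine Subtype.ext (Subtype.ext ?_)
        simpa [σ] using congrArg (fun x : K => ((x : (Xw e)) : G)) hab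
      show (χ : G → ℂ) _ - av _ = (χ : G → ℂ) _ - av _
      rw [← hw2, hc]
      congr 1
      simp only [av]
      congr 1
      refine (Fintype.sum_bijective σ hσ _ _ fun k => ?_).symm
      show (χ : G → ℂ) ((k : (Xw e)) * wX : (Xw e)) = (χ : G → ℂ) (((σ k : K) : (Xw e)) * (wX * wX) : (Xw e))
      rw [Subgroup.coe_mul, Subgroup.coe_mul _ ((σ k : K) : (Xw e)), ← hw2,
        show (((σ k : K) : (Xw e)) : G) = (tH : G) * ((k : (Xw e)) : G) * (tH : G)⁻¹ from rfl,
        show (tH : G) * ((k : (Xw e)) : G) * (tH : G)⁻¹ * ((tH : G) * ge e w0 * (tH : G)⁻¹) =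
          (tH : G) * (((k : (Xw e)) : G) * ge e w0) * (tH : G)⁻¹ by group, hc]
    obtain ⟨z0', hz0⟩ := hD 1 (fun _ _ => rfl)
    obtain ⟨z1', hz1⟩ := hD ν hνK
    rw [collapse 1 (fun _ _ => rfl), hsym] at hz0
    rw [collapse ν hνK, hsym] at hz1
    simp only [MonoidHom.one_apply, map_one, mul_one] at hz0
    set ζ := ν wX with hζ
    have hζ3 : ζ ^ 3 = 1 := by
      rw [← map_pow, show wX ^ 3 = 1 from Subtype.ext (by simp [wX, w3]), map_one]
    have hζsum : ζ * ζ + ζ + 1 = 0 := by
      have h : (ζ - 1) * (ζ * ζ + ζ + 1) = 0 := by linear_combination hζ3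
      exact (mul_eq_zero.1 h).resolve_left (sub_ne_zero.2 (hνw wX rfl))
    rw [map_one ν, map_one, mul_one, map_mul ν, ← hζ] at hz1
    have hcz : conj ζ + conj (ζ * ζ) = -1 := by
      rw [← map_add, show ζ + ζ * ζ = ((-1 : ℤ) : ℂ) by push_cast; linear_combination hζsum,
        map_intCast]
      norm_num
    have h3 : η wX / 3 = ((z0' - z1' : ℤ) : ℂ) := by
      push_cast
      linear_combination hz0 - hz1 + (η wX / 9) * hcz
    -- the two parts
    have eW : classInner FW (χ : G → ℂ) = -conj (av wX) / 3 := by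
      rw [CfsgLib.Induction.classInner_indFun _ _ (irr_isClassFunction χ), classInner, hcardX,
        sumX fun x => conj ((χ : G → ℂ) (x : G))]
      simp only [av, map_mul, map_inv₀, map_natCast, map_sum]
      push_cast
      field_simp
      ring
    obtain ⟨n, hn⟩ := classInner_generalized_int
      (show IsGeneralizedCharacter H (fun h => (fP (wim e h) : ℂ)) by
        obtain ⟨a, b, ha, hb, hab⟩ := isGeneralized_fP
        exact ⟨fun h => a (e h), fun h => b (e h),
          CfsgLib.CharGalois.isCharacter_comp ha e.toMonoidHom,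
          CfsgLib.CharGalois.isCharacter_comp hb e.toMonoidHom, funext fun h => congrFun hab (e h)⟩)
      (isGeneralizedCharacter_of_isCharacter
        (CfsgLib.CharGalois.isCharacter_comp (isCharacter_of_irr χ.2) H.subtype))
    have eY : classInner FY (χ : G → ℂ) = (n : ℂ) + conj ((χ : G → ℂ) (ge e w0)) / 3 := by
      rw [CfsgLib.Induction.classInner_indFun _ _ (irr_isClassFunction χ), classInner, hcard]
      rw [classInner, hcard] at hn
      have hsplit : ∀ h : H, (fW (wim e h) : ℂ) * conj ((χ : G → ℂ) (h : G)) =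
          (fW (wim e h) : ℂ) * conj ((χ : G → ℂ) (ge e w0)) := by
        intro h
        by_cases hw : rot3 (wim e h) ∧ wim e h * wim e h * wim e h = 1
        · obtain ⟨c, a, b, t, ht⟩ := w_class _ (wim_mem' e h) hw.1 hw.2
          have he : el e (conjC t a b 0 c) * el e w0 * (el e (conjC t a b 0 c))⁻¹ = h := by
            refine wim_inj e ?_
            rw [wim_mul, wim_mul, wim_inv, wim_el e (conjC_mem _ _ _ _ _), wim_el e mw, ht]
          have hcoe : (el e (conjC t a b 0 c) : G) * ge e w0 * (el e (conjC t a b 0 c) : G)⁻¹ =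
              (h : G) := by simpa [ge] using congrArg (fun z : H => (z : G)) he
          rw [← irr_isClassFunction χ (ge e w0) (el e (conjC t a b 0 c) : G), hcoe]
        · rw [show fW (wim e h) = 0 from if_neg hw, Int.cast_zero, zero_mul, zero_mul]
      rw [← hn]
      simp only [thY, Subgroup.coe_subtype]
      rw [Finset.sum_congr rfl fun h _ => show (fY (wim e h) : ℂ) * conj ((χ : G → ℂ) (h : G)) =
        (fP (wim e h) : ℂ) * conj ((χ : G → ℂ) (h : G)) -
          (fW (wim e h) : ℂ) * conj ((χ : G → ℂ) (ge e w0)) by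
        rw [← hsplit, fP_eq]; push_cast; ring, Finset.sum_sub_distrib, ← Finset.sum_mul,
        sumH fun x => (fW x : ℂ), ← Int.cast_sum, sums4.2.2]
      push_cast
      ring
    refine ⟨n + (z0' - z1'), ?_⟩
    rw [show F = FW + FY from rfl, add_inner, eW, eY]
    have h4 := congrArg conj h3
    rw [map_div₀, map_ofNat, map_intCast] at h4
    simp only [η, map_sub] at h4
    push_cast at h4 ⊢
    rw [show ((wX : (Xw e)) : G) = ge e w0 from rfl] at h4
    linear_combination h4
  choose m hm using hint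
  choose dd hd0 hd using fun χ : IrrCharacter G => irr_exists_degree χ.2
  have hdegC : ∀ χ : IrrCharacter G, (χ : G → ℂ) 1 = ((dd χ : ℤ) : ℂ) := fun χ => by
    rw [hd]; simp
  have expand : ∀ g, F g = ev (fun χ : IrrCharacter G => (χ : G → ℂ) g) m := by
    intro g
    conv_lhs => rw [classFunction_eq_sum cF]
    simp [hm, ev]
  have hmm : m ⬝ᵥ m = 3 := by
    rw [classInner_eq_sum_mul cF] at innerFF
    simp only [hm, map_intCast, ← Int.cast_mul, ← Int.cast_sum] at innerFF
    exact_mod_cast innerFF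
  have hmP : m (principalIrr G) = -1 := by
    have h := hm (principalIrr G)
    rw [show F = FW + FY from rfl, add_inner,
      CfsgLib.Induction.classInner_indFun _ _ (irr_isClassFunction _),
      CfsgLib.Induction.classInner_indFun _ _ (irr_isClassFunction _)] at h
    simp only [classInner, principalIrr_apply, map_one, hcardX, hcard] at h
    rw [sumX fun _ => (1 : ℂ)] at h
    simp only [mul_one, thY, Finset.sum_const, Finset.card_univ, ← Nat.card_eq_fintype_card,
      nsmul_eq_mul] at h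
    rw [sumH fun x => (fY x : ℂ), ← Int.cast_sum, sums4.2.1] at h
    have hKne : (Nat.card K : ℂ) ≠ 0 := CfsgLib.Induction.natCard_ne_zero'
    push_cast at h
    field_simp at h
    have h' : ((m (principalIrr G) : ℤ) : ℂ) = ((-1 : ℤ) : ℂ) := by
      push_cast
      linear_combination (-1 / 5832 : ℂ) * h
    exact_mod_cast h'
  -- values vanish on elements of square one
  have hsqF : ∀ g : G, g * g = 1 → F g = 0 := by
    intro g hg
    have h1 : FY g = 0 := CfsgLib.SpecialClasses.ind_apply_sq H supY thY hY0 (fun h hh hc => by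
      have := congrArg (fun x : H => wim e x) hc
      simp only [wim_mul, wim_one] at this
      have h3 : rot3 (wim e h) := hh.1
      have h4 : (wim e h).right * (wim e h).right = 1 := congrArg (fun x : W => x.right) this
      exact (by decide +kernel : ∀ q : D3, (q = .r 1 ∨ q = .r 2) → q * q ≠ 1) _ h3 h4) hg
    have h2 : FW g = 0 := CfsgLib.SpecialClasses.ind_apply_sq (Xw e) supW thW hW0 (fun x hx hc => by
      obtain ⟨k, hk, rfl⟩ := supW_eq x hx
      obtain ⟨n, hn⟩ := recover k hk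
      have h2 : ge e w0 ^ 2 = 1 := by
        rw [← hn, ← pow_mul, mul_comm, pow_mul, sq, ← Subgroup.coe_mul, hc, OneMemClass.coe_one,
          one_pow]
      have hw : ge e w0 = 1 := by
        calc ge e w0 = ge e w0 ^ 3 * ((ge e w0) ^ 2)⁻¹ := by group
          _ = 1 := by rw [w3, h2]; simp
      exact base_facts.2.2.2.2.2.2.2.1 (by
        rw [← wim_el e mw, show el e w0 = 1 from Subtype.ext hw, wim_one])) hg
    show FW g + FY g = 0
    rw [h1, h2, add_zero]
  -- no product of two conjugates of `z` meets the support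
  have hzz : ge e z0 * ge e z0 = 1 := congrArg Subtype.val
    (wim_inj e (a := el e z0 * el e z0) (b := 1)
      (by rw [wim_mul, wim_el e mz, base_facts.2.2.2.2.1, wim_one]))
  have hcl : ∀ a, IsConj (ge e z0) a → a * a = 1 := by
    intro a ha
    obtain ⟨g, rfl⟩ := isConj_iff.1 ha
    rw [show g * ge e z0 * g⁻¹ * (g * ge e z0 * g⁻¹) = g * (ge e z0 * ge e z0) * g⁻¹ by group, hzz]
    group
  have hinvert : ∀ a x : G, a * a = 1 → a * x * (a * x) = 1 → a * x * a⁻¹ = x⁻¹ := by
    intro a x h1 h2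
    rw [show a⁻¹ = a from inv_eq_of_mul_eq_one_right h1]
    exact eq_inv_of_mul_eq_one_left (by rw [mul_assoc, mul_assoc, ← mul_assoc]; exact h2)
  have hprodY : ∀ (a : G) (h : H), supY h → IsConj (ge e z0) a →
      IsConj (ge e z0) (a * h) → False := by
    intro a h hh ha hb
    have hinv := hinvert a h (hcl a ha) (hcl _ hb)
    have haH : a ∈ H := by
      refine conj_mem_H e hJ hC (hYJ h hh).1 (hYJ h hh).2 ?_
      rw [show a * ((h : G) * h * h) * a⁻¹ = a * h * a⁻¹ * (a * h * a⁻¹) * (a * h * a⁻¹) by group,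
        hinv, show (h : G)⁻¹ * (h : G)⁻¹ * (h : G)⁻¹ = ((h : G) * h * h)⁻¹ by group]
      exact inv_mem (hYJ h hh).1
    have r1 := right_of_isConj_z e hJ hC (a := ⟨a, haH⟩) ha
    have r2 := right_of_isConj_z e hJ hC (a := ⟨a, haH⟩ * h) hb
    rw [wim_mul, SemidirectProduct.mul_right, r1, one_mul] at r2
    have := hh.1
    rw [rot3, r2] at this
    revert this
    decide +kernel
  have hprodW : ∀ (a : G) (x : (Xw e)), supW x → IsConj (ge e z0) a →
      IsConj (ge e z0) (a * x) → False := by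
    intro a x hx ha hb
    obtain ⟨k, hk, rfl⟩ := supW_eq x hx
    obtain ⟨n, hn⟩ := recover k hk
    have hinv := hinvert a _ (hcl a ha) (hcl _ hb)
    have hw' : a * ge e w0 * a⁻¹ = (ge e w0)⁻¹ := by
      rw [← hn, ← conj_pow, hinv, inv_pow]
    -- `a` lies in the coset of `t`
    have hatX : a * (tH : G)⁻¹ ∈ (Xw e) := by
      refine Subgroup.mem_centralizer_singleton_iff.2 ?_
      have ht' : (tH : G)⁻¹ * ge e w0 = (ge e w0)⁻¹ * (tH : G)⁻¹ := by
        have h1 := congrArg (·⁻¹) htw
        simp only [_root_.mul_inv_rev, inv_inv] at h1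
        calc (tH : G)⁻¹ * ge e w0
            = (tH : G)⁻¹ * ((tH : G) * ((ge e w0)⁻¹ * (tH : G)⁻¹)) := by rw [h1]
          _ = (ge e w0)⁻¹ * (tH : G)⁻¹ := by group
      have ha' : a * (ge e w0)⁻¹ = ge e w0 * a := by
        have := congrArg (·⁻¹) hw'
        simp only [_root_.mul_inv_rev, inv_inv] at this
        rw [← mul_assoc] at this
        exact mul_inv_eq_iff_eq_mul.1 this
      calc a * (tH : G)⁻¹ * ge e w0 = a * ((tH : G)⁻¹ * ge e w0) := mul_assoc _ _ _
        _ = a * (ge e w0)⁻¹ * (tH : G)⁻¹ := by rw [ht', mul_assoc]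
        _ = ge e w0 * (a * (tH : G)⁻¹) := by rw [ha', mul_assoc]
    obtain ⟨⟨k1, u1⟩, hku⟩ := hKc.2 ⟨_, hatX⟩
    have hu1H : ((u1 : (Xw e)) : G) ∈ H := u1.2
    let r : H := ⟨((u1 : (Xw e)) : G), hu1H⟩ * tH
    have ha_eq : a = ((k1 : (Xw e)) : G) * (r : G) := by
      have h := congrArg Subtype.val hku
      simp only [Subgroup.coe_mul] at h
      show a = ((k1 : (Xw e)) : G) * (((u1 : (Xw e)) : G) * (tH : G))
      rw [← mul_assoc, h]; group
    have hrw : wim e r * w0 * (wim e r)⁻¹ = w0⁻¹ := by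
      have h1 : (r : G) * ge e w0 * (r : G)⁻¹ = (ge e w0)⁻¹ := by
        show ((u1 : (Xw e)) : G) * (tH : G) * ge e w0 * (((u1 : (Xw e)) : G) * (tH : G))⁻¹ = _
        rw [show ((u1 : (Xw e)) : G) * (tH : G) * ge e w0 * (((u1 : (Xw e)) : G) * (tH : G))⁻¹ =
          ((u1 : (Xw e)) : G) * ((tH : G) * ge e w0 * (tH : G)⁻¹) * ((u1 : (Xw e)) : G)⁻¹ by group, htw]
        have hc : Commute ((u1 : (Xw e)) : G) (ge e w0) :=
          Subgroup.mem_centralizer_singleton_iff.1 (u1 : (Xw e)).2
        rw [hc.inv_right.eq]; group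
      have h2 : r * el e w0 * r⁻¹ = (el e w0)⁻¹ := Subtype.ext (by simpa [ge] using h1)
      have h3 := congrArg (wim e) h2
      rwa [wim_mul, wim_mul, wim_inv, wim_inv, wim_el e mw] at h3
    obtain ⟨rs, rd, -⟩ := inverts_w0 _ (wim_mem' e r) hrw
    have r2 : (r : G) * r = 1 := by
      rw [← wim_mul, ← wim_one e] at rs
      exact congrArg Subtype.val (wim_inj e rs)
    have rd' : (r : G) * ge e d0 * (r : G)⁻¹ = (ge e d0)⁻¹ := by
      have := wim_inj e (a := r * el e d0 * r⁻¹) (b := (el e d0)⁻¹) (by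
        rw [wim_mul, wim_mul, wim_inv, wim_inv, wim_el e md, rd])
      simpa [ge] using congrArg Subtype.val this
    have hfree : ∀ c ∈ K, c * dX = dX * c → c = 1 := fun c hc hcd =>
      hfix c hc (congrArg Subtype.val hcd)
    obtain ⟨k', hk', hkd⟩ := coset_conj K hKn hfree k1.2
    have hkdG : ((k' : (Xw e)) : G) * ge e d0 * ((k' : (Xw e)) : G)⁻¹ = ((k1 : (Xw e)) : G) * ge e d0 :=
      congrArg Subtype.val hkd
    -- `a` inverts a conjugate of `d`
    have hb1 : a * ((r : G) * ge e d0) = ((k1 : (Xw e)) : G) * ge e d0 := by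
      rw [ha_eq, mul_assoc ((k1 : (Xw e)) : G), ← mul_assoc (r : G), r2, one_mul]
    have hb2 : (r : G) * ge e d0 * ((r : G) * ge e d0) = 1 := by
      rw [show (r : G) * ge e d0 * ((r : G) * ge e d0) =
        (r : G) * ge e d0 * (r : G)⁻¹ * ((r : G) * r) * ge e d0 by group, rd', r2]
      group
    have hainv : a * (((k1 : (Xw e)) : G) * ge e d0) * a⁻¹ = (((k1 : (Xw e)) : G) * ge e d0)⁻¹ := by
      rw [← hb1, show a * (a * ((r : G) * ge e d0)) * a⁻¹ =
        (a * a) * ((r : G) * ge e d0) * a⁻¹ by group, hcl a ha, one_mul, _root_.mul_inv_rev,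
        show ((r : G) * ge e d0)⁻¹ = (r : G) * ge e d0 from inv_eq_of_mul_eq_one_right hb2]
    let b : G := ((k' : (Xw e)) : G)⁻¹ * a * ((k' : (Xw e)) : G)
    have hdJ : ge e d0 ∈ J := (memJ_iff e hJ _).2 (by rw [wim_el e md]; exact base_facts.1)
    have hd1 : ge e d0 ≠ 1 := fun h => base_facts.2.1 (by
      rw [← wim_el e md, show el e d0 = 1 from Subtype.ext h, wim_one])
    have hbH : b ∈ H := by
      refine conj_mem_H e hJ hC hdJ hd1 ?_
      rw [show b * ge e d0 * b⁻¹ = ((k' : (Xw e)) : G)⁻¹ *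
        (a * (((k' : (Xw e)) : G) * ge e d0 * ((k' : (Xw e)) : G)⁻¹) * a⁻¹) * ((k' : (Xw e)) : G) by
          simp only [b]; group, hkdG, hainv, ← hkdG]
      rw [show ((k' : (Xw e)) : G)⁻¹ * (((k' : (Xw e)) : G) * ge e d0 * ((k' : (Xw e)) : G)⁻¹)⁻¹ *
        ((k' : (Xw e)) : G) = (ge e d0)⁻¹ by group]
      exact inv_mem hdJ
    have hbw : b * ge e w0 * b⁻¹ = (ge e w0)⁻¹ := by
      have hc : Commute ((k' : (Xw e)) : G) (ge e w0) :=
        Subgroup.mem_centralizer_singleton_iff.1 k'.2
      have hc1 : ((k' : (Xw e)) : G) * ge e w0 * ((k' : (Xw e)) : G)⁻¹ = ge e w0 := by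
        rw [hc.eq]; group
      calc b * ge e w0 * b⁻¹
          = ((k' : (Xw e)) : G)⁻¹ * (a * (((k' : (Xw e)) : G) * ge e w0 * ((k' : (Xw e)) : G)⁻¹) * a⁻¹) *
              ((k' : (Xw e)) : G) := by simp only [b]; group
        _ = ((k' : (Xw e)) : G)⁻¹ * (ge e w0)⁻¹ * ((k' : (Xw e)) : G) := by rw [hc1, hw']
        _ = (ge e w0)⁻¹ := by rw [(hc.inv_inv).eq]; group
    have hbz : IsConj (ge e z0) b :=
      ha.trans (isConj_iff.2 ⟨((k' : (Xw e)) : G)⁻¹, by simp [b]⟩)
    refine (inverts_w0 _ (wim_mem' e ⟨b, hbH⟩) ?_).2.2 (right_of_isConj_z e hJ hC hbz)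
    have h2 : (⟨b, hbH⟩ : H) * el e w0 * (⟨b, hbH⟩ : H)⁻¹ = (el e w0)⁻¹ :=
      Subtype.ext (by simpa [ge] using hbw)
    have h3 := congrArg (wim e) h2
    rwa [wim_mul, wim_mul, wim_inv, wim_inv, wim_el e mw] at h3
  have hab : ∀ a b : G, IsConj (ge e z0) a → IsConj (ge e z0) b → F (a * b) = 0 := by
    intro a b ha hb
    have hgen : ∀ (Y : Subgroup G) (s : Y → Prop) (θ : Y → ℂ), (∀ y, ¬ s y → θ y = 0) →
        (∀ (c : G) (y : Y), s y → IsConj (ge e z0) c → IsConj (ge e z0) (c * y) → False) →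
        indFun Y θ (a * b) = 0 := by
      intro Y s θ h0 hno
      rw [CfsgLib.Induction.indFun_apply, Finset.sum_eq_zero, mul_zero]
      intro c _
      by_cases hmem : c⁻¹ * (a * b) * c ∈ Y
      · rw [CfsgLib.Induction.extendByZero_mem _ _ hmem]
        refine h0 _ fun hs => hno (c⁻¹ * a * c) ⟨_, hmem⟩ hs ?_ ?_
        · exact ha.trans (isConj_iff.2 ⟨c⁻¹, by simp⟩)
        · rw [show c⁻¹ * a * c * (c⁻¹ * (a * b) * c) = c⁻¹ * (a * a) * b * c by group, hcl a ha,
            mul_one]
          exact hb.trans (isConj_iff.2 ⟨c⁻¹, by simp⟩)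
      · rw [CfsgLib.Induction.extendByZero_notMem _ _ hmem]
    show FW (a * b) + FY (a * b) = 0
    rw [show FW (a * b) = 0 from hgen (Xw e) supW thW hW0 fun c y hy => hprodW c y hy,
      show FY (a * b) = 0 from hgen H supY thY hY0 fun c y hy => hprodY c y hy, add_zero]
  have hE : ev (fun χ : IrrCharacter G =>
      (χ : G → ℂ) (ge e z0) ^ 2 / (χ : G → ℂ) 1) m = 0 := by
    have h1 : ∑ a ∈ Finset.univ.filter (IsConj (ge e z0)),
        ∑ b ∈ Finset.univ.filter (IsConj (ge e z0)), F (a * b) = 0 :=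
      Finset.sum_eq_zero fun a ha => Finset.sum_eq_zero fun b hb =>
        hab a b (Finset.mem_filter.1 ha).2 (Finset.mem_filter.1 hb).2
    simp only [expand, ev] at h1
    rw [Finset.sum_congr rfl fun a _ => Finset.sum_comm, Finset.sum_comm] at h1
    simp only [← Finset.mul_sum, CfsgLib.GL23.sum_class_product] at h1
    have hk : (Nat.card {x : G // IsConj (ge e z0) x} : ℂ) ^ 2 ≠ 0 := by
      haveI : Nonempty {x : G // IsConj (ge e z0) x} := ⟨⟨_, IsConj.refl _⟩⟩
      exact pow_ne_zero _ (Nat.cast_ne_zero.2 Nat.card_pos.ne')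
    refine (mul_eq_zero.1 (Eq.trans ?_ h1)).resolve_left hk
    rw [ev, Finset.mul_sum]
    exact Finset.sum_congr rfl fun χ _ => by ring
  -- two constituents
  let P : IrrCharacter G := principalIrr G
  let v : IrrCharacter G → ℤ := m + Pi.single P 1
  have hvP : v P = 0 := by simp [v, P, hmP]
  have hvv : v ⬝ᵥ v = 2 := by
    simp [v, P, add_dotProduct, dotProduct_add, hmm, hmP]
  obtain ⟨p, q, hp, hq, -, -, -, hpq⟩ := split_two hvP hvv
  have hm_eq : m = -Pi.single P 1 + (p + q) := by rw [← hpq]; simp [v]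
  let w1 := fun χ : IrrCharacter G => (χ : G → ℂ) 1
  let wz := fun χ : IrrCharacter G => (χ : G → ℂ) (ge e z0)
  obtain ⟨np, ep⟩ := ev_unit wz w1 (fun χ => irr_one_ne_zero χ) hp
  obtain ⟨nq, eq'⟩ := ev_unit wz w1 (fun χ => irr_one_ne_zero χ) hq
  have pr : ∀ g, F g = -1 + (ev (fun χ : IrrCharacter G => (χ : G → ℂ) g) p +
      ev (fun χ : IrrCharacter G => (χ : G → ℂ) g) q) := fun g => by
    rw [expand, hm_eq]
    simp [ev_add, ev_neg, ev_single, P]
  have z1 : -1 + (ev w1 p + ev w1 q) = 0 := (pr 1).symm.trans (hsqF 1 (mul_one 1))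
  have zz : -1 + (ev wz p + ev wz q) = 0 := (pr _).symm.trans (hsqF _ hzz)
  have hE' : -1 + (ev wz p ^ 2 / ev w1 p + ev wz q ^ 2 / ev w1 q) = 0 := by
    rw [hm_eq] at hE
    rw [← ep, ← eq']
    simpa [ev_add, ev_neg, ev_single, P, wz, w1] using hE
  have hvq : ev wz q = ev w1 q := by
    have hl : ev w1 p = 1 - ev w1 q := by linear_combination z1
    have hv : ev wz p = 1 - ev wz q := by linear_combination zz
    rw [hl] at hE' np
    rw [hv] at hE'
    field_simp at hE'
    have h : (ev wz q - ev w1 q) ^ 2 = 0 := by linear_combination hE'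
    exact sub_eq_zero.1 (eq_zero_of_pow_eq_zero h)
  have hvp : ev wz p = ev w1 p := by linear_combination zz - z1 - hvq
  -- one of them is not trivial on `y`
  have hy : F (ge e y0) = -3 := by
    have hs : supY (el e y0) := ⟨by rw [wim_el e my]; exact y0_facts.1, fun h => y0_facts.2 (by
      rw [← wim_el e my, ← wim_mul, ← wim_mul, h, wim_one])⟩
    show FW (ge e y0) + FY (ge e y0) = -3
    rw [show FW (ge e y0) = 0 from hdisj _ hs, zero_add,
      show FY (ge e y0) = thY (el e y0) from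
        CfsgLib.SpecialClasses.ind_apply_supp H supY thY hY0 hYc hTIY hs]
    simp only [thY, wim_el e my, fY, if_pos y0_facts]
    norm_num
  have kern : ∀ r : IrrCharacter G → ℤ, r ⬝ᵥ r = 1 → ev wz r = ev w1 r →
      ev (fun χ : IrrCharacter G => (χ : G → ℂ) (ge e y0)) r ≠ ev w1 r →
      ∃ N : Subgroup G, N.Normal ∧ ge e z0 ∈ N ∧ ge e y0 ∉ N := by
    intro r hr hrz hry
    obtain ⟨x, ε, hε, rfl⟩ := exists_single hr
    have hεne : (ε : ℂ) ≠ 0 := by rcases hε with rfl | rfl <;> simp
    simp only [ev_single, wz, w1] at hrz hry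
    exact ⟨CfsgLib.Chars17.irrKer x, inferInstance, mul_left_cancel₀ hεne hrz,
      fun h => hry (by rw [show (x : G → ℂ) (ge e y0) = (x : G → ℂ) 1 from h])⟩
  obtain ⟨N, hNn, hzN, hyN⟩ : ∃ N : Subgroup G, N.Normal ∧ ge e z0 ∈ N ∧ ge e y0 ∉ N := by
    by_cases h1 : ev (fun χ : IrrCharacter G => (χ : G → ℂ) (ge e y0)) p = ev w1 p
    · refine kern q hq hvq fun h2 => ?_
      have h3 := (pr (ge e y0)).symm.trans hy
      rw [h1, h2] at h3
      have : (3 : ℂ) = 0 := by linear_combination h3 - z1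
      norm_num at this
    · exact kern p hp hvp h1
  haveI := hNn
  -- the intersection with `H`
  have hzs : ∀ a : H, wim e a ≠ 1 → wim e a * wim e a = 1 → (wim e a).right = 1 →
      (a : G) ∈ N := by
    intro a h1 h2 h3
    obtain ⟨i, t, ht⟩ := z_class _ (wim_mem' e a) h1 h2 h3
    have he : el e (conjC t 0 0 i 0) * el e z0 * (el e (conjC t 0 0 i 0))⁻¹ = a := by
      refine wim_inj e ?_
      rw [wim_mul, wim_mul, wim_inv, wim_el e (conjC_mem _ _ _ _ _), wim_el e mz, ht]
    rw [← he]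
    exact hNn.conj_mem _ hzN _
  have minl : ∀ v : Vec, v ∈ M → sg (SemidirectProduct.inl v : W).left *
      sgn (SemidirectProduct.inl v : W).right = 1 := fun v hv => by
    rw [SemidirectProduct.left_inl, SemidirectProduct.right_inl, sgn_one, mul_one]
    exact mem_M.1 hv
  have hH0 : ∀ a : H, (wim e a).right = 1 → (a : G) ∈ N := by
    let f : M →* H := e.symm.toMonoidHom.comp
      { toFun := fun v => ⟨SemidirectProduct.inl (v : Vec), mem_M4_iff.2 (minl v v.2)⟩
        map_one' := Subtype.ext (map_one _)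
        map_mul' := fun a b => Subtype.ext (map_mul _ _ _) }
    have hf : ∀ v : M, wim e (f v) = SemidirectProduct.inl (v : Vec) := fun v => by
      simp [f, wim]
    have hzf : ∀ v : M, (v : Vec) ∈ zs → v ∈ (N.comap (H.subtype.comp f)) := by
      intro v hv
      obtain ⟨h1, h2, -⟩ := zs_facts _ hv
      refine hzs (f v) ?_ ?_ ?_
      · rw [hf, ← map_one (SemidirectProduct.inl : Vec →* W)]
        exact fun h => h1 (SemidirectProduct.inl_injective h)
      · rw [hf, ← map_mul, h2, map_one]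
      · rw [hf, SemidirectProduct.right_inl]
    have hall : ∀ v : Vec, ∀ hv : v ∈ M, (⟨v, hv⟩ : M) ∈ N.comap (H.subtype.comp f) := by
      let C : Subgroup Vec := (N.comap (H.subtype.comp f)).map M.subtype
      have hM : M ≤ C := by
        have hz' : ∀ v ∈ zs, v ∈ C := fun v hv => Subgroup.mem_map.2
          ⟨⟨v, mem_M.2 (zs_facts v hv).2.2⟩, hzf _ hv, rfl⟩
        rw [← CfsgLib.ThreeCubed.closure_eq, Subgroup.closure_le]
        intro v hv
        simp only [Set.mem_insert_iff, Set.mem_singleton_iff] at hv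
        obtain ⟨q1, q2, q3⟩ := gens_from_zs
        rcases hv with rfl | rfl | rfl | rfl | rfl
        · rw [q1]; exact mul_mem (hz' _ (by simp [zs])) (hz' _ (by simp [zs]))
        · rw [q2]; exact mul_mem (hz' _ (by simp [zs])) (hz' _ (by simp [zs]))
        · rw [q3]; exact mul_mem (hz' _ (by simp [zs])) (hz' _ (by simp [zs]))
        · exact hz' _ (by simp [zs])
        · exact hz' _ (by simp [zs])
      intro v hv
      obtain ⟨v', hv', he⟩ := Subgroup.mem_map.1 (hM hv)
      rwa [show (⟨v, hv⟩ : M) = v' from Subtype.ext he.symm]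
    intro a ha
    have hs : sg (wim e a).left = 1 := by
      have := mem_M4_iff.1 (wim_mem e a)
      rwa [ha, sgn_one, mul_one] at this
    have h2 := hall (wim e a).left (mem_M.2 hs)
    have : f ⟨(wim e a).left, mem_M.2 hs⟩ = a := wim_inj e (by
      rw [hf]; exact SemidirectProduct.ext rfl (by rw [SemidirectProduct.right_inl, ha]))
    rw [← this]
    exact h2
  have hright : ∀ a : H, (a : G) ∈ N → (wim e a).right = 1 := by
    intro a ha
    by_contra hr
    obtain ⟨b, hb, hbr⟩ : ∃ b : H, (b : G) ∈ N ∧ rot3 (wim e b) := by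
      rcases right_reach _ (wim_mem' e a) hr with h | h
      · exact ⟨a, ha, h⟩
      · refine ⟨a * el e w0 * a⁻¹ * (el e w0)⁻¹, ?_, ?_⟩
        · rw [show a * el e w0 * a⁻¹ * (el e w0)⁻¹ = a * (el e w0 * a⁻¹ * (el e w0)⁻¹) by group]
          exact mul_mem ha (hNn.conj_mem _ (inv_mem ha) _)
        · rwa [wim_mul, wim_mul, wim_mul, wim_inv, wim_inv, wim_el e mw]
    refine hyN ?_
    rcases rot_reach _ hbr with h | h
    · have h' := hH0 (el e y0 * b⁻¹) (by
        rw [wim_mul, wim_inv, wim_el e my, SemidirectProduct.mul_right,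
          SemidirectProduct.inv_right]
        exact h)
      have := mul_mem h' hb
      simpa [ge] using this
    · have h' := hH0 (el e y0 * b) (by
        rw [wim_mul, wim_el e my, SemidirectProduct.mul_right]; exact h)
      have := mul_mem h' (inv_mem hb)
      simpa [ge] using this
  -- apply the smaller case inside `N`
  have hJN : J ≤ N := fun j hj =>
    hH0 ⟨j, hJH hj⟩ ((memJ_iff e hJ ⟨j, hJH hj⟩).1 hj).1
  let HN : Subgroup N := H.subgroupOf N
  let TN : Subgroup N := J.subgroupOf N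
  have himg : ∀ a : HN, ((a : N) : G) ∈ H := fun a => a.2
  have hleft : ∀ a : HN, sg (wim e ⟨_, himg a⟩).left = 1 := fun a => by
    have := mem_M4_iff.1 (wim_mem e ⟨_, himg a⟩)
    rwa [hright _ (a : N).2, sgn_one, mul_one] at this
  let g : HN →* M :=
    { toFun := fun a => ⟨(wim e ⟨_, himg a⟩).left, mem_M.2 (hleft a)⟩
      map_one' := Subtype.ext (by
        show (wim e ⟨_, _⟩).left = 1
        rw [show (⟨(((1 : HN) : N) : G), himg 1⟩ : H) = 1 from Subtype.ext rfl, wim_one]
        rfl)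
      map_mul' := fun a b => Subtype.ext (by
        show (wim e ⟨_, _⟩).left = (wim e ⟨_, himg a⟩).left * (wim e ⟨_, himg b⟩).left
        rw [show (⟨(((a * b : HN) : N) : G), himg (a * b)⟩ : H) =
          ⟨_, himg a⟩ * ⟨_, himg b⟩ from Subtype.ext rfl, wim_mul, SemidirectProduct.mul_left,
          hright _ (a : N).2, map_one]
        rfl) }
  have gbij : Function.Bijective g := by
    refine ⟨fun a b hab => ?_, fun v => ?_⟩
    · have h : (⟨_, himg a⟩ : H) = ⟨_, himg b⟩ := wim_inj e (SemidirectProduct.ext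
        (congrArg (fun x : M => (x : Vec)) hab) (by rw [hright _ (a : N).2, hright _ (b : N).2]))
      exact Subtype.ext (Subtype.ext (congrArg (fun x : H => (x : G)) h))
    · have hs := minl v v.2
      have hr : (wim e (el e (SemidirectProduct.inl (v : Vec)))).right = 1 := by
        rw [wim_el e hs, SemidirectProduct.right_inl]
      refine ⟨⟨⟨_, hH0 _ hr⟩, (el e (SemidirectProduct.inl (v : Vec))).2⟩, Subtype.ext ?_⟩
      show (wim e (el e _)).left = _
      rw [wim_el e hs, SemidirectProduct.left_inl]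
  have hcardJ : Nat.card TN = 27 := by
    rw [Nat.card_congr (Subgroup.subgroupOfEquivOfLe hJN).toEquiv]
    have hmem : ∀ v ∈ Tset, sg v = 1 := fun v hv =>
      (Finset.mem_filter.1 (Finset.mem_filter.1 hv).1).2
    have hcube : ∀ v ∈ Tset, v * v * v = 1 := fun v hv => (Finset.mem_filter.1 hv).2
    have hins : ∀ v ∈ Tset, sg (SemidirectProduct.inl v : W).left *
        sgn (SemidirectProduct.inl v : W).right = 1 := fun v hv => minl v (mem_M.2 (hmem v hv))
    rw [← card_Tset, ← Nat.card_eq_finsetCard]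
    refine Nat.card_congr
      { toFun := fun j => ⟨(wim e ⟨j.1, hJH j.2⟩).left,
          Tset_of ((memJ_iff e hJ ⟨j.1, hJH j.2⟩).1 j.2).2.1
            ((memJ_iff e hJ ⟨j.1, hJH j.2⟩).1 j.2).2.2⟩
        invFun := fun v => ⟨(el e (SemidirectProduct.inl v.1) : G), (memJ_iff e hJ _).2 (by
          rw [wim_el e (hins _ v.2)]; exact isJ_inl (hmem _ v.2) (hcube _ v.2))⟩
        left_inv := fun j => Subtype.ext ?_
        right_inv := fun v => Subtype.ext ?_ }
    · have hj' := (memJ_iff e hJ ⟨j.1, hJH j.2⟩).1 j.2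
      show (el e (SemidirectProduct.inl (wim e ⟨j.1, hJH j.2⟩).left) : G) = j.1
      rw [← isJ_eq_inl hj']
      exact (ge_eq e (mem_M4_iff.1 (wim_mem e _)) rfl).symm
    · show (wim e (el e (SemidirectProduct.inl v.1))).left = v.1
      rw [wim_el e (hins _ v.2), SemidirectProduct.left_inl]
  haveI : Finite N := Subtype.finite
  have hnormT : Subgroup.normalizer (TN : Set N) = HN := by
    ext a
    constructor
    · intro ha
      have hdJ : ge e d0 ∈ J := (memJ_iff e hJ _).2 (by rw [wim_el e md]; exact base_facts.1)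
      have hd1 : ge e d0 ≠ 1 := fun h => base_facts.2.1 (by
        rw [← wim_el e md, show el e d0 = 1 from Subtype.ext h, wim_one])
      exact conj_mem_H e hJ hC hdJ hd1
        ((Subgroup.mem_normalizer_iff.1 ha ⟨_, hJN hdJ⟩).1 hdJ)
    · intro ha
      haveI : Finite (TN : Set N) := Subtype.finite
      refine Subgroup.mem_normalizer_fintype fun n hn => ?_
      have h1 : ((a : N) : G) * (n : G) * ((a : N) : G)⁻¹ =
          ((⟨_, ha⟩ * ⟨_, hJH hn⟩ * (⟨_, ha⟩ : H)⁻¹ : H) : G) := rfl
      show ((a : N) : G) * (n : G) * ((a : N) : G)⁻¹ ∈ J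
      rw [h1, memJ_iff e hJ, wim_mul, wim_mul, wim_inv]
      exact isJ_conj ((memJ_iff e hJ ⟨_, hJH hn⟩).1 hn) (wim_mem e _)
  have htop : HN = ⊤ := CfsgLib.ThreeCubed.eq_top (MulEquiv.ofBijective g gbij)
    (fun x hx => hJH hx) hcardJ hnormT (fun t ht ht1 x hx => hC (t : G) ht
      (fun h => ht1 (Subtype.ext h)) (Subgroup.mem_centralizer_singleton_iff.2
        (congrArg Subtype.val (Subgroup.mem_centralizer_singleton_iff.1 hx))))
  have hNH : N ≤ H := Subgroup.subgroupOf_eq_top.1 htop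
  rw [eq_top_iff]
  intro c _
  have hdJ : ge e d0 ∈ J := (memJ_iff e hJ _).2 (by rw [wim_el e md]; exact base_facts.1)
  have hd1 : ge e d0 ≠ 1 := fun h => base_facts.2.1 (by
    rw [← wim_el e md, show el e d0 = 1 from Subtype.ext h, wim_one])
  exact conj_mem_H e hJ hC hdJ hd1
    (hsc.2 _ hdJ c (hNH (hNn.conj_mem _ (hJN hdJ) c)))

end CfsgLib.ThreeCubedWreath
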