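import Cfsg.Agent.Lib.ThreeCubed.Model
import Mathlib.GroupTheory.SemidirectProduct


/-!
# The group `3³ : S₄` inside the wreath product of two copies of the dihedral group of order six
-/

set_option autoImplicit false

namespace CfsgLib.ThreeCubedWreath

open Cfsg CfsgLib.ThreeCubed CfsgLib.Characters

/-- Permutation of the coordinates. -/
def pm (s : D3) (v : Vec) : Vec :=
  (cmp (act s⁻¹ 0) v, cmp (act s⁻¹ 1) v, cmp (act s⁻¹ 2) v)

theorem pm_mul : ∀ (s : D3) (v w : Vec), pm s (v * w) = pm s v * pm s w := fun _ v w =>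
  Prod.ext (cmp_mul _ v w) (Prod.ext (cmp_mul _ v w) (cmp_mul _ v w))

theorem pm_pm : ∀ (s t : D3) (v : Vec), pm s (pm t v) = pm (s * t) v := by decide +kernel

theorem pm_one : ∀ (v : Vec), pm 1 v = v := by decide +kernel

/-- The permutation of coordinates as automorphisms. -/
def pmAut : D3 →* MulAut Vec where
  toFun s :=
    { toFun := pm s
      invFun := pm s⁻¹
      left_inv := fun v => by rw [pm_pm, inv_mul_cancel, pm_one]
      right_inv := fun v => by rw [pm_pm, mul_inv_cancel, pm_one]
      map_mul' := pm_mul s }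
  map_one' := MulEquiv.ext pm_one
  map_mul' s t := MulEquiv.ext fun v => (pm_pm s t v).symm

/-- The wreath product. -/
abbrev W : Type := Vec ⋊[pmAut] D3

instance : DecidableEq W := fun _ _ => decidable_of_iff _ SemidirectProduct.ext_iff.symm

instance : Fintype W := Fintype.ofEquiv _ SemidirectProduct.equivProd.symm

theorem sg_pm : ∀ (s : D3) (v : Vec), sg (pm s v) = sg v := by decide +kernel

/-- The sign. -/
def wsHom : W →* ℤ where
  toFun x := sg x.left * sgn x.right
  map_one' := rfl
  map_mul' a b := by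
    show sg (a.left * pm a.right b.left) * sgn (a.right * b.right) = _
    rw [show sg (a.left * pm a.right b.left) = sg a.left * sg (pm a.right b.left) from
      sgHom.map_mul _ _, sg_pm, sgn_mul]
    ring

/-- The group of order 648. -/
def M4 : Subgroup W := wsHom.ker

/-- Its underlying finite set. -/
def M4set : Finset W := Finset.univ.filter fun x => sg x.left * sgn x.right = 1

theorem mem_M4set {x : W} : x ∈ M4set ↔ x ∈ M4 := by
  simp only [M4set, Finset.mem_filter, Finset.mem_univ, true_and]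
  exact (MonoidHom.mem_ker (f := wsHom)).symm

theorem mem_M4_iff {x : W} : x ∈ M4 ↔ sg x.left * sgn x.right = 1 :=
  MonoidHom.mem_ker (f := wsHom)

theorem mem_M4set_iff {x : W} : x ∈ M4set ↔ sg x.left * sgn x.right = 1 := by
  rw [mem_M4set, mem_M4_iff]

theorem card_M4 : Nat.card M4 = 648 := by
  rw [Nat.subtype_card M4set fun x => mem_M4set]
  decide +kernel

theorem sum_M4 [Fintype M4] {β : Type*} [AddCommMonoid β] (F : W → β) :
    ∑ h : M4, F h = ∑ x ∈ M4set, F x :=
  (Finset.sum_subtype M4set (fun _ => mem_M4set) F).symm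

/-- The permutation of the blocks. -/
def blk : D3 →* Equiv.Perm (Fin 9) where
  toFun s := (finProdFinEquiv : ZMod 3 × Fin 3 ≃ Fin 9).permCongr
    (Equiv.prodCongrLeft fun _ => actHom s)
  map_one' := by decide +kernel
  map_mul' := by decide +kernel

theorem phi_pm : ∀ (s : D3) (v : Vec), phi (pm s v) = blk s * phi v * (blk s)⁻¹ := by
  intro s v
  refine eq_mul_inv_iff_mul_eq.2 (Equiv.ext ?_)
  revert s v
  decide +kernel

/-- The action on nine points. -/
def psi : W →* Equiv.Perm (Fin 9) :=
  SemidirectProduct.lift phi blk fun s => MonoidHom.ext fun v => phi_pm s v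

theorem blk_ne : ∀ (s : D3), s ≠ 1 → ∀ v : Vec, phi v * blk s ≠ 1 := by decide +kernel

theorem psi_injective : Function.Injective psi := by
  refine (injective_iff_map_eq_one psi).2 fun x hx => ?_
  change phi x.left * blk x.right = 1 at hx
  by_cases hs : x.right = 1
  · rw [hs, map_one, mul_one] at hx
    exact SemidirectProduct.ext (phi_injective (hx.trans phi.map_one.symm)) hs
  · exact absurd hx (blk_ne _ hs _)

/-- The block cycle. -/
def gB : W := SemidirectProduct.inr (.r 2)
/-- A block transposition. -/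
def gC : W := ⟨(1, 1, .sr 1), .sr 1⟩
/-- A transformation of a single block. -/
def i1 : W := SemidirectProduct.inl g1
/-- An involution. -/
def i4 : W := SemidirectProduct.inl g4

theorem gens_conj : SemidirectProduct.inl g2 = gB * i1 * gB⁻¹ ∧
    SemidirectProduct.inl g3 = gB⁻¹ * i1 * gB ∧
    ((SemidirectProduct.inl g5 : W) = gB * i4 * gB⁻¹ ∨
      (SemidirectProduct.inl g5 : W) = gB⁻¹ * i4 * gB) := by decide +kernel

theorem right_gens : ∀ s : D3, ∃ a : Fin 3, ∃ c : Fin 2,
    s * (gB.right ^ a.val * gC.right ^ c.val)⁻¹ = 1 := by decide +kernel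

theorem closure_eq4 : Subgroup.closure ({i1, gB, i4, gC} : Set W) = M4 := by
  have hgens : ({i1, gB, i4, gC} : Set W) ⊆ M4 := by
    intro x hx
    simp only [Set.mem_insert_iff, Set.mem_singleton_iff] at hx
    rw [SetLike.mem_coe, mem_M4_iff]
    rcases hx with rfl | rfl | rfl | rfl <;> decide +kernel
  refine le_antisymm ((Subgroup.closure_le _).2 hgens) fun x hx => ?_
  let C := Subgroup.closure ({i1, gB, i4, gC} : Set W)
  have hb : gB ∈ C := Subgroup.subset_closure (by simp)
  have h1 : i1 ∈ C := Subgroup.subset_closure (by simp)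
  have h4 : i4 ∈ C := Subgroup.subset_closure (by simp)
  have hc : gC ∈ C := Subgroup.subset_closure (by simp)
  have hM : M ≤ C.comap (SemidirectProduct.inl : Vec →* W) := by
    rw [← CfsgLib.ThreeCubed.closure_eq, Subgroup.closure_le]
    intro v hv
    simp only [Set.mem_insert_iff, Set.mem_singleton_iff] at hv
    obtain ⟨e2, e3, e5⟩ := gens_conj
    simp only [SetLike.mem_coe, Subgroup.mem_comap]
    rcases hv with rfl | rfl | rfl | rfl | rfl
    · exact h1
    · rw [e2]; exact mul_mem (mul_mem hb h1) (inv_mem hb)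
    · rw [e3]; exact mul_mem (mul_mem (inv_mem hb) h1) hb
    · exact h4
    · rcases e5 with e | e <;> rw [e]
      · exact mul_mem (mul_mem hb h4) (inv_mem hb)
      · exact mul_mem (mul_mem (inv_mem hb) h4) hb
  obtain ⟨a, c, hr'⟩ := right_gens x.right
  have hr : SemidirectProduct.rightHom (x * (gB ^ a.val * gC ^ c.val)⁻¹) = 1 := by
    rw [map_mul, map_inv, map_mul, map_pow, map_pow]; exact hr'
  replace hr : (x * (gB ^ a.val * gC ^ c.val)⁻¹).right = 1 := hr
  obtain ⟨y, hy⟩ : ∃ y, y = gB ^ a.val * gC ^ c.val := ⟨_, rfl⟩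
  rw [← hy] at hr
  have hyC : y ∈ C := hy ▸ mul_mem (pow_mem hb _) (pow_mem hc _)
  have hz : x * y⁻¹ ∈ M4 := mul_mem hx (inv_mem (hy ▸ mul_mem
    (pow_mem (hgens (by simp)) _) (pow_mem (hgens (by simp)) _)))
  rw [show x = x * y⁻¹ * y by group]
  refine mul_mem ?_ hyC
  rw [← SemidirectProduct.inl_left_mul_inr_right (x * y⁻¹), hr, map_one, mul_one]
  refine hM (mem_M.2 ?_)
  have h := MonoidHom.mem_ker.1 hz
  change sg (x * y⁻¹).left * sgn (x * y⁻¹).right = 1 at h
  rwa [hr, sgn_one, mul_one] at h

theorem psi_mk (v : Vec) (s : D3) : psi ⟨v, s⟩ = phi v * blk s := rfl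

theorem psi_gens : psi i1 = Equiv.swap (0 : Fin 9) 1 * Equiv.swap 1 2 ∧
    psi gB = Equiv.swap (0 : Fin 9) 3 * Equiv.swap 3 6 * (Equiv.swap (1 : Fin 9) 4 *
      Equiv.swap 4 7) * (Equiv.swap (2 : Fin 9) 5 * Equiv.swap 5 8) ∧
    psi i4 = Equiv.swap (0 : Fin 9) 1 * Equiv.swap 3 4 ∧
    psi gC = Equiv.swap (0 : Fin 9) 3 * Equiv.swap 1 4 * Equiv.swap 2 5 * Equiv.swap 6 7 := by
  rw [show i1 = ⟨g1, 1⟩ from rfl, show gB = ⟨1, .r 2⟩ from rfl, show i4 = ⟨g4, 1⟩ from rfl,
    gC, psi_mk, psi_mk, psi_mk, psi_mk]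
  decide +kernel

/-- The group generated by the given permutations is a copy of `M4`. -/
noncomputable def closureEquiv4 : Subgroup.closure ({Equiv.swap (0 : Fin 9) 1 * Equiv.swap 1 2,
      Equiv.swap (0 : Fin 9) 3 * Equiv.swap 3 6 * (Equiv.swap (1 : Fin 9) 4 * Equiv.swap 4 7) *
        (Equiv.swap (2 : Fin 9) 5 * Equiv.swap 5 8),
      Equiv.swap (0 : Fin 9) 1 * Equiv.swap 3 4,
      Equiv.swap (0 : Fin 9) 3 * Equiv.swap 1 4 * Equiv.swap 2 5 * Equiv.swap 6 7} :
        Set (Equiv.Perm (Fin 9))) ≃* M4 :=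
  (MulEquiv.subgroupCongr (by
    obtain ⟨h1, h2, h3, h4⟩ := psi_gens
    rw [← closure_eq4, MonoidHom.map_closure]
    simp only [Set.image_insert_eq, Set.image_singleton, h1, h2, h3, h4])).trans
    (M4.equivMapOfInjective psi psi_injective).symm

/-! ### The elements in question -/

/-- The elements of the normal subgroup of order 27. -/
def isJ (x : W) : Prop := x.right = 1 ∧ sg x.left = 1 ∧ x.left * x.left * x.left = 1

instance : DecidablePred isJ := fun _ => inferInstanceAs (Decidable (_ ∧ _ ∧ _))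
/-- Representatives of the classes in `Jset`. -/
def jrep : Fin 3 → W := ![SemidirectProduct.inl (.r 1, 1, 1),
  SemidirectProduct.inl (.r 1, .r 1, 1), SemidirectProduct.inl (.r 1, .r 1, .r 1)]
/-- An element of order three outside. -/
def w0 : W := SemidirectProduct.inr (.r 1)
/-- A diagonal element. -/
def d0 : W := SemidirectProduct.inl (.r 1, .r 1, .r 1)
/-- The central involution. -/
def z0 : W := SemidirectProduct.inl (rep 0)
/-- An element of order nine. -/
def y0 : W := ⟨(.r 1, 1, 1), .r 1⟩
/-- An element inverting `w0`. -/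
def t0 : W := ⟨(.sr 0, .sr 0, .sr 0), .sr 0⟩
/-- A block cycle in the image. -/
def rot3 (x : W) : Prop := x.right = .r 1 ∨ x.right = .r 2

instance : DecidablePred rot3 := fun _ => inferInstanceAs (Decidable (_ ∨ _))

/-- The special function. -/
def fP (x : W) : ℤ := two x.right - 1 - sgn x.right
/-- Its part on the elements of order nine. -/
def fY (x : W) : ℤ := if rot3 x ∧ x * x * x ≠ 1 then -3 else 0
/-- Its part on the elements of order three. -/
def fW (x : W) : ℤ := if rot3 x ∧ x * x * x = 1 then -3 else 0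

/-- A complex function on `M4`. -/
noncomputable def cst4 (f : W → ℤ) : M4 → ℂ := fun h => (f h : ℂ)

theorem isGeneralized_fP : IsGeneralizedCharacter M4 (cst4 fP) := by
  have hs : IsCharacter M4 (cst4 fun x => sgn x.right) :=
    CfsgLib.Induction.isCharacter_monoidHom (((Int.castRingHom ℂ).toMonoidHom.comp
      (sgnHom.comp SemidirectProduct.rightHom)).comp M4.subtype)
  have h := CfsgLib.Induction.isCharacter_of_matrix
    ((((Int.castRingHom ℂ).mapMatrix).toMonoidHom.comp
      ((⟨⟨Rm, Rm_one⟩, Rm_mul⟩ : D3 →* Matrix (Fin 2) (Fin 2) ℤ).comp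
        SemidirectProduct.rightHom)).comp M4.subtype)
  have h2 : IsCharacter M4 (cst4 fun x => two x.right) := by
    refine (funext fun g => ?_ : cst4 (fun x => two x.right) = _) ▸ h
    show _ = ((Rm (g : W).right).map (Int.castRingHom ℂ)).trace
    rw [cst4, ← trace_Rm]
    simp [Matrix.trace]
  exact (funext fun g => by simp [cst4, fP] :
    cst4 (fun x => two x.right) - 1 - cst4 (fun x => sgn x.right) = cst4 fP) ▸
    isGeneralizedCharacter_sub (isGeneralizedCharacter_sub
      (isGeneralizedCharacter_of_isCharacter h2) isGeneralizedCharacter_one)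
      (isGeneralizedCharacter_of_isCharacter hs)

theorem fP_eq : ∀ x : W, fP x = fY x + fW x := by decide +kernel

end CfsgLib.ThreeCubedWreath
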